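import Mathlib
import Cfsg.Agent.Lib.Solvable.FrobeniusComplement
import Cfsg.Agent.Lib.Invol.Dihedral

/-!
A trivial-intersection subgroup `M` inverted by an involution `z` of its normaliser, in a group with more
involutions than cosets of `M`: the coset decomposition and the centraliser of `z`.
-/

set_option autoImplicit false

namespace CfsgLib.LocalEven.InvolutionCount

open Subgroup

variable {G : Type*} [Group G]

/-- An involution. -/
def Inv2 (u : G) : Prop := u ≠ 1 ∧ u * u = 1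

theorem inv2_iff {u : G} : Inv2 u ↔ orderOf u = 2 := by
  rw [orderOf_eq_prime_iff (p := 2), pow_two]
  exact and_comm

theorem Inv2.inv_eq {u : G} (h : Inv2 u) : u⁻¹ = u := inv_eq_of_mul_eq_one_right h.2

theorem Inv2.conj {u : G} (h : Inv2 u) (g : G) : Inv2 (g * u * g⁻¹) :=
  ⟨fun e => h.1 (by rwa [mul_inv_eq_one, mul_eq_left] at e), by
    rw [show g * u * g⁻¹ * (g * u * g⁻¹) = g * (u * u) * g⁻¹ by group, h.2, mul_one, mul_inv_cancel]⟩

theorem even_card_of_inv2_mem [Finite G] {H : Subgroup G} {u : G} (hu : Inv2 u) (h : u ∈ H) :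
    2 ∣ Nat.card H := (inv2_iff.1 hu) ▸ Subgroup.orderOf_dvd_natCard H h

/-- The hypotheses, with the two trivial conclusions excluded. -/
structure Setup (M : Subgroup G) (z : G) : Prop where
  ne_bot : M ≠ ⊥
  ti : ∀ g : G, M ⊓ M.map (MulAut.conj g).toMonoidHom ≠ ⊥ → M.map (MulAut.conj g).toMonoidHom = M
  invol : Inv2 z
  z_mem : z ∈ normalizer (M : Set G)
  fac : M ⊔ (normalizer (M : Set G) ⊓ centralizer ({z} : Set G)) = normalizer (M : Set G)
  odd : ∀ x ∈ M, x ≠ 1 → Odd (Nat.card (centralizer ({x} : Set G)))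
  not_normal : ¬ M.Normal
  many : M.index < Nat.card {g : G // orderOf g = 2}

variable {M : Subgroup G} {z : G}

/-- The complement. -/
def cC (M : Subgroup G) (z : G) : Subgroup G := normalizer (M : Set G) ⊓ centralizer ({z} : Set G)

theorem mem_cC {k : G} : k ∈ cC M z ↔ k ∈ normalizer (M : Set G) ∧ z * k = k * z := by
  rw [cC, mem_inf, mem_centralizer_singleton_iff]
  exact and_congr_right fun _ => eq_comm

namespace Setup

theorem z_mem_C (h : Setup M z) : z ∈ cC M z := mem_cC.2 ⟨h.z_mem, rfl⟩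

variable [Finite G]

/-- An involution centralises no element of `M`. -/
theorem fpf (h : Setup M z) {u x : G} (hu : Inv2 u) (hx : x ∈ M) (hc : u * x = x * u) : x = 1 := by
  by_contra hne
  exact (Nat.not_even_iff_odd.2 (h.odd x hx hne))
    (even_iff_two_dvd.2 (even_card_of_inv2_mem hu (mem_centralizer_singleton_iff.2 hc)))

/-- An involution normalising `M` inverts it. -/
theorem inverts (h : Setup M z) {u : G} (hu : Inv2 u) (huN : u ∈ normalizer (M : Set G)) {x : G}
    (hx : x ∈ M) : u * x * u⁻¹ = x⁻¹ := by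
  refine CfsgLib.Solvable.conj_eq_inv_of_fpf (H := zpowers u) (zpowers_le.2 huN) ?_ (mem_zpowers u)
    (inv2_iff.1 hu) x hx
  intro a ha ha1
  obtain ⟨k, rfl⟩ := mem_zpowers_iff.1 ha
  have hk : u ^ k = u := by
    rcases Int.even_or_odd k with ⟨j, rfl⟩ | ⟨j, rfl⟩
    · refine absurd ?_ ha1
      rw [← two_mul, zpow_mul, zpow_ofNat, pow_two, hu.2, one_zpow]
    · rw [zpow_add, zpow_mul, zpow_ofNat, pow_two, hu.2, one_zpow, one_mul, zpow_one]
  rw [hk, eq_bot_iff]
  intro y hy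
  exact mem_bot.2 (h.fpf hu hy.1 (mem_centralizer_singleton_iff.1 hy.2).symm)

theorem comm (h : Setup M z) {x y : G} (hx : x ∈ M) (hy : y ∈ M) : x * y = y * x := by
  have h1 := h.inverts h.invol h.z_mem (mul_mem hx hy)
  rw [show z * (x * y) * z⁻¹ = (z * x * z⁻¹) * (z * y * z⁻¹) by group, h.inverts h.invol h.z_mem hx,
    h.inverts h.invol h.z_mem hy, _root_.mul_inv_rev] at h1
  have h2 := congrArg (fun w => w⁻¹) h1
  simpa [mul_inv_rev] using h2.symm

theorem no_inv2 (h : Setup M z) {u : G} (hu : Inv2 u) : u ∉ M := fun hm => hu.1 (h.fpf hu hm rfl)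

theorem odd_card (h : Setup M z) : Odd (Nat.card M) := by
  rw [← Nat.not_even_iff_odd, even_iff_two_dvd]
  intro hd
  obtain ⟨u, hu⟩ := exists_prime_orderOf_dvd_card' 2 hd
  exact h.no_inv2 (inv2_iff.2 (orderOf_coe u ▸ hu)) u.2

theorem one_lt_card (h : Setup M z) : 1 < Nat.card M := (Subgroup.one_lt_card_iff_ne_bot M).2 h.ne_bot

theorem sqrt (h : Setup M z) {y : G} (hy : y ∈ M) : ∃ r ∈ M, r * r = y ∧ r ∈ zpowers y := by
  obtain ⟨k, hk⟩ := (h.odd_card.of_dvd_nat (orderOf_dvd_natCard M hy) : Odd (orderOf y))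
  refine ⟨y ^ (k + 1), pow_mem hy _, ?_, pow_mem (mem_zpowers y) _⟩
  rw [← pow_add, show k + 1 + (k + 1) = orderOf y + 1 by omega, pow_succ, pow_orderOf_eq_one, one_mul]

theorem disjoint (h : Setup M z) {x : G} (hx : x ∈ M) (hC : x ∈ cC M z) : x = 1 :=
  h.fpf h.invol hx (mem_cC.1 hC).2

theorem C_le (_h : Setup M z) : cC M z ≤ normalizer (M : Set G) := inf_le_left

theorem conj_C (h : Setup M z) {k x : G} (hk : k ∈ cC M z) (hx : x ∈ M) : k * x * k⁻¹ ∈ M :=
  ((mem_normalizer_iff.1 (h.C_le hk)) x).1 hx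

theorem decomp (h : Setup M z) {g : G} (hg : g ∈ normalizer (M : Set G)) :
    ∃ y ∈ M, ∃ k ∈ cC M z, g = y * k := by
  have h1 : g ∈ ((M ⊔ cC M z : Subgroup G) : Set G) := h.fac.ge hg
  rw [coe_mul_of_right_le_normalizer_left M (cC M z) h.C_le] at h1
  obtain ⟨y, hy, k, hk, rfl⟩ := h1
  exact ⟨y, hy, k, hk, rfl⟩

theorem decomp_unique (h : Setup M z) {y y' k k' : G} (hy : y ∈ M) (hy' : y' ∈ M) (hk : k ∈ cC M z)
    (hk' : k' ∈ cC M z) (e : y * k = y' * k') : y = y' ∧ k = k' := by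
  have e1 : y'⁻¹ * y = k' * k⁻¹ := by
    calc y'⁻¹ * y = y'⁻¹ * (y * k) * k⁻¹ := by group
      _ = _ := by rw [e]; group
  have h1 := h.disjoint (mul_mem (inv_mem hy') hy) (e1 ▸ mul_mem hk' (inv_mem hk))
  obtain rfl : y = y' := (inv_mul_eq_one.1 h1).symm
  exact ⟨rfl, mul_left_cancel e⟩

theorem mul_z (h : Setup M z) {y : G} (hy : y ∈ M) : Inv2 (y * z) := by
  refine ⟨fun e => h.no_inv2 h.invol ?_, ?_⟩
  · rw [mul_eq_one_iff_eq_inv] at e
    rw [← inv_inv z, ← e]
    exact inv_mem hy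
  · rw [show y * z * (y * z) = y * (z * y * z⁻¹) * (z * z) by group, h.inverts h.invol h.z_mem hy,
      mul_inv_cancel, one_mul, h.invol.2]

/-- The involutions of the normaliser. -/
theorem invol_normalizer (h : Setup M z) {u : G} (hu : Inv2 u) (huN : u ∈ normalizer (M : Set G)) :
    ∃ y ∈ M, u = y * z := by
  obtain ⟨y, hy, k, hk, rfl⟩ := h.decomp huN
  refine ⟨y, hy, ?_⟩
  have hk2 : k * k = 1 := by
    have e : y * (k * y * k⁻¹) * (k * k) = 1 * 1 := by
      rw [one_mul, ← hu.2]; group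
    exact (h.decomp_unique (mul_mem hy (h.conj_C hk hy)) (one_mem M) (mul_mem hk hk) (one_mem _) e).2
  by_contra hne
  have hkz : k ≠ z := fun e => hne (by rw [e])
  have hw : Inv2 (k * z) := by
    refine ⟨fun e => hkz ?_, ?_⟩
    · rw [mul_eq_one_iff_eq_inv, h.invol.inv_eq] at e; exact e
    · rw [show k * z * (k * z) = k * (z * k) * z by group, (mem_cC.1 hk).2,
        show k * (k * z) * z = (k * k) * (z * z) by group, hk2, h.invol.2, one_mul]
  obtain ⟨x, hx, hx1⟩ := (ne_bot_iff_exists_ne_one.1 h.ne_bot).elim fun x hx =>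
    (⟨x, x.2, fun e => hx (Subtype.ext e)⟩ : ∃ x, x ∈ M ∧ x ≠ 1)
  refine hx1 (h.fpf hw hx ?_)
  have hyx : y * (k * x * k⁻¹) * y⁻¹ = x⁻¹ := by
    rw [← h.inverts hu huN hx]; group
  rw [h.comm hy (h.conj_C hk hx), mul_inv_cancel_right] at hyx
  have hzx : z * x = x⁻¹ * z := by rw [← h.inverts h.invol h.z_mem hx]; group
  calc k * z * x = k * (x⁻¹ * z) := by rw [mul_assoc, hzx]
    _ = (k * x * k⁻¹)⁻¹ * (k * z) := by group
    _ = x * (k * z) := by rw [hyx, inv_inv]

theorem eq_z (h : Setup M z) {u : G} (hu : Inv2 u) (huC : u ∈ cC M z) : u = z := by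
  obtain ⟨y, hy, rfl⟩ := h.invol_normalizer hu (h.C_le huC)
  have e : y * z = 1 * (y * z) := (one_mul _).symm
  rw [(h.decomp_unique hy (one_mem M) h.z_mem_C huC e).1, one_mul]

/-- Elements moving `M` meet it trivially. -/
theorem conj_mem (h : Setup M z) {g x : G} (hx : x ∈ M) (hx1 : x ≠ 1) (hgx : g * x * g⁻¹ ∈ M) :
    g ∈ normalizer (M : Set G) := by
  refine mem_normalizer_iff_map_conj_eq.2 (h.ti g fun e => hx1 ?_)
  have h1 : g * x * g⁻¹ ∈ (⊥ : Subgroup G) := e ▸ (⟨hgx, x, hx, rfl⟩ : g * x * g⁻¹ ∈ M ⊓ M.map (MulAut.conj g).toMonoidHom)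
  rwa [mem_bot, mul_inv_eq_one, mul_eq_left] at h1

/-- A coset of `M` outside the normaliser holds at most one involution. -/
theorem coset_unique (h : Setup M z) {u x : G} (hu : Inv2 u) (huN : u ∉ normalizer (M : Set G))
    (hx : x ∈ M) (hux : Inv2 (u * x)) : x = 1 := by
  by_contra hne
  refine huN (h.conj_mem hx hne ?_)
  have h1 : u * x * u⁻¹ = x⁻¹ := eq_inv_of_mul_eq_one_left (by rw [hu.inv_eq, ← hux.2]; group)
  rw [h1]
  exact inv_mem hx

theorem mul_not_mem (_h : Setup M z) {g x : G} (hg : g ∉ normalizer (M : Set G)) (hx : x ∈ M) :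
    g * x ∉ normalizer (M : Set G) := fun e =>
  hg (by simpa using mul_mem e (inv_mem (le_normalizer hx) : x⁻¹ ∈ normalizer (M : Set G)))

open scoped Classical in
/-- Every coset outside the normaliser holds an involution; the number of involutions. -/
theorem cosets (h : Setup M z) :
    (∀ g : G, g ∉ normalizer (M : Set G) → ∃ u, Inv2 u ∧ ∃ x ∈ M, g = u * x) ∧
      Nat.card {g : G // orderOf g = 2} + Nat.card (cC M z) = Nat.card M + M.index := by
  haveI : Fintype G := Fintype.ofFinite G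
  set N := normalizer (M : Set G) with hN
  -- cosets inside the normaliser
  set In : Finset (G ⧸ M) := Finset.univ.filter fun q => q.out ∈ N with hIn
  set Out : Finset (G ⧸ M) := Finset.univ.filter fun q => q.out ∉ N with hOut
  set Good : Finset (G ⧸ M) := Finset.univ.filter fun q => ∃ u, Inv2 u ∧ u ∉ N ∧ QuotientGroup.mk u = q
    with hGood
  have hout : ∀ (g : G), (QuotientGroup.mk g : G ⧸ M).out ∈ N ↔ g ∈ N := by
    intro g
    obtain ⟨x, hx⟩ := QuotientGroup.mk_out_eq_mul M g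
    rw [hx]
    exact ⟨fun e => by simpa using mul_mem e (inv_mem (le_normalizer x.2) : (x : G)⁻¹ ∈ N),
      fun e => mul_mem e (le_normalizer x.2)⟩
  have hGO : Good ⊆ Out := fun q hq => by
    obtain ⟨-, u, -, huN, rfl⟩ := Finset.mem_filter.1 hq
    exact Finset.mem_filter.2 ⟨Finset.mem_univ _, fun e => huN ((hout u).1 e)⟩
  have hInCard : In.card = Nat.card (cC M z) := by
    rw [← Nat.card_eq_finsetCard]
    refine (Nat.card_congr (Equiv.ofBijective (fun k : cC M z =>
      (⟨QuotientGroup.mk (k : G), Finset.mem_filter.2 ⟨Finset.mem_univ _, (hout _).2 (h.C_le k.2)⟩⟩ : In))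
      ⟨fun k l e => ?_, fun q => ?_⟩)).symm
    · have e1 := QuotientGroup.eq.1 (congrArg Subtype.val e)
      exact Subtype.ext (inv_mul_eq_one.1 (h.disjoint e1 (mul_mem (inv_mem k.2) l.2)))
    · obtain ⟨y, hy, k, hk, e⟩ := h.decomp (Finset.mem_filter.1 q.2).2
      refine ⟨⟨k, hk⟩, Subtype.ext ?_⟩
      show QuotientGroup.mk k = (q : G ⧸ M)
      conv_rhs => rw [← QuotientGroup.out_eq' (q : G ⧸ M), e]
      rw [QuotientGroup.eq, show k⁻¹ * (y * k) = k⁻¹ * y * k⁻¹⁻¹ by group]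
      exact h.conj_C (inv_mem hk) hy
  have hsum : In.card + Out.card = M.index := by
    rw [Subgroup.index, Nat.card_eq_fintype_card]
    exact Finset.card_filter_add_card_filter_not (fun q : G ⧸ M => q.out ∈ N)
  -- the involutions
  set J : Finset G := Finset.univ.filter fun u => Inv2 u with hJ
  have hJcard : J.card = Nat.card {g : G // orderOf g = 2} := by
    rw [Nat.card_eq_fintype_card, Fintype.card_subtype]
    congr 1
    exact Finset.filter_congr fun u _ => inv2_iff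
  have hJin : (J.filter fun u => u ∈ N).card = Nat.card M := by
    rw [← Nat.card_eq_finsetCard]
    refine (Nat.card_congr (Equiv.ofBijective (fun y : M =>
      (⟨(y : G) * z, Finset.mem_filter.2 ⟨Finset.mem_filter.2 ⟨Finset.mem_univ _, h.mul_z y.2⟩,
        mul_mem (le_normalizer y.2) h.z_mem⟩⟩ : {u // u ∈ J.filter fun u => u ∈ N})) ⟨?_, fun u => ?_⟩)).symm
    · exact fun a b e => Subtype.ext (mul_right_cancel (congrArg Subtype.val e))
    · obtain ⟨h1, h2⟩ := Finset.mem_filter.1 u.2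
      obtain ⟨y, hy, e⟩ := h.invol_normalizer (Finset.mem_filter.1 h1).2 h2
      exact ⟨⟨y, hy⟩, Subtype.ext e.symm⟩
  have hJout : (J.filter fun u => u ∉ N).card = Good.card := by
    refine Finset.card_bij (fun u _ => (QuotientGroup.mk u : G ⧸ M)) (fun u hu => ?_) (fun a ha b hb e => ?_)
      (fun q hq => ?_)
    · obtain ⟨h1, h2⟩ := Finset.mem_filter.1 hu
      exact Finset.mem_filter.2 ⟨Finset.mem_univ _, u, (Finset.mem_filter.1 h1).2, h2, rfl⟩
    · obtain ⟨h1, h2⟩ := Finset.mem_filter.1 ha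
      obtain ⟨h3, -⟩ := Finset.mem_filter.1 hb
      have e1 := QuotientGroup.eq.1 e
      have := h.coset_unique (Finset.mem_filter.1 h1).2 h2 e1 (by
        rw [mul_inv_cancel_left]; exact (Finset.mem_filter.1 h3).2)
      exact inv_mul_eq_one.1 this
    · obtain ⟨-, u, hu, huN, rfl⟩ := Finset.mem_filter.1 hq
      exact ⟨u, Finset.mem_filter.2 ⟨Finset.mem_filter.2 ⟨Finset.mem_univ _, hu⟩, huN⟩, rfl⟩
  have hJsum : (J.filter fun u => u ∈ N).card + (J.filter fun u => u ∉ N).card = J.card :=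
    Finset.card_filter_add_card_filter_not _
  have hcpos : 0 < Nat.card (cC M z) := Nat.card_pos
  have hall : ∀ g : G, g ∉ N → ∃ u, Inv2 u ∧ ∃ x ∈ M, g = u * x := by
    intro g hg
    by_contra hbad
    -- the translates of a bad coset are bad
    have hmem : ∀ x ∈ M, (QuotientGroup.mk (x * g) : G ⧸ M) ∈ Out \ Good := by
      intro x hx
      refine Finset.mem_sdiff.2 ⟨Finset.mem_filter.2 ⟨Finset.mem_univ _, fun e => hg ?_⟩, fun hq => ?_⟩
      · simpa using mul_mem (inv_mem (le_normalizer hx) : x⁻¹ ∈ N) ((hout _).1 e)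
      · obtain ⟨-, u, hu, -, e⟩ := Finset.mem_filter.1 hq
        have hy := QuotientGroup.eq.1 e
        refine hbad ⟨x⁻¹ * u * x, ?_, x⁻¹ * (u⁻¹ * (x * g)), mul_mem (inv_mem hx) hy, by group⟩
        have := hu.conj x⁻¹
        rwa [inv_inv] at this
    have hle : Nat.card M ≤ (Out \ Good).card := by
      rw [← Nat.card_eq_finsetCard]
      refine Nat.card_le_card_of_injective (fun x : M => (⟨_, hmem x x.2⟩ : {q // q ∈ Out \ Good})) ?_
      intro a b e
      have e1 := QuotientGroup.eq.1 (congrArg Subtype.val e)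
      by_contra hne
      refine hg (?_ : g ∈ N)
      have h1 : g⁻¹ ∈ N := h.conj_mem (mul_mem (inv_mem a.2) b.2) (fun e2 => hne
        (Subtype.ext (inv_mul_eq_one.1 e2))) (by
          rw [show g⁻¹ * ((a : G)⁻¹ * b) * g⁻¹⁻¹ = ((a : G) * g)⁻¹ * (b * g) by group]; exact e1)
      simpa using inv_mem h1
    rw [Finset.card_sdiff_of_subset hGO] at hle
    have h2 := Finset.card_le_card hGO
    have h3 := h.many
    rw [← hJcard, ← hJsum, hJin, hJout] at h3
    omega
  refine ⟨hall, ?_⟩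
  have hGood : Good = Out := Finset.Subset.antisymm hGO fun q hq => by
    obtain ⟨u, hu, x, hx, e⟩ := hall q.out (Finset.mem_filter.1 hq).2
    refine Finset.mem_filter.2 ⟨Finset.mem_univ _, u, hu, fun huN => (Finset.mem_filter.1 hq).2 ?_, ?_⟩
    · rw [e]; exact mul_mem huN (le_normalizer hx)
    · rw [← QuotientGroup.out_eq' q, e, QuotientGroup.eq]
      simpa using hx
  rw [← hJcard, ← hJsum, hJin, hJout, hGood]
  omega

theorem outside_decomp (h : Setup M z) {g : G} (hg : g ∉ normalizer (M : Set G)) :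
    ∃ u, Inv2 u ∧ u ∉ normalizer (M : Set G) ∧ ∃ x ∈ M, g = u * x := by
  obtain ⟨u, hu, x, hx, rfl⟩ := h.cosets.1 g hg
  exact ⟨u, hu, fun hN => hg (mul_mem hN (le_normalizer hx)), x, hx, rfl⟩

theorem outside_unique (h : Setup M z) {u v x y : G} (hu : Inv2 u) (hv : Inv2 v)
    (huN : u ∉ normalizer (M : Set G)) (hx : x ∈ M) (hy : y ∈ M) (e : u * x = v * y) :
    u = v ∧ x = y := by
  have e1 : v = u * (x * y⁻¹) := by rw [← mul_assoc, e, mul_inv_cancel_right]
  have h1 := h.coset_unique hu huN (mul_mem hx (inv_mem hy)) (e1 ▸ hv)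
  rw [h1, mul_one] at e1
  exact ⟨e1.symm, mul_inv_eq_one.1 h1⟩

/-- Outside `C`, the centraliser of `z` consists of involutions. -/
theorem centralizer_outside (h : Setup M z) {g : G} (hg : g * z = z * g) (hgC : g ∉ cC M z) :
    Inv2 g ∧ g ∉ normalizer (M : Set G) := by
  have hgN : g ∉ normalizer (M : Set G) := fun hN => hgC (mem_cC.2 ⟨hN, hg.symm⟩)
  obtain ⟨u, hu, huN, x, hx, rfl⟩ := h.outside_decomp hgN
  have e : (z * u * z⁻¹) * x⁻¹ = u * x := by
    rw [← h.inverts h.invol h.z_mem hx]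
    calc z * u * z⁻¹ * (z * x * z⁻¹) = z * (u * x) * z⁻¹ := by group
      _ = (u * x) * z * z⁻¹ := by rw [hg]
      _ = _ := by group
  have h1 : z * u * z⁻¹ ∉ normalizer (M : Set G) := fun hN => huN (by
    have h2 := mul_mem (mul_mem (inv_mem h.z_mem) hN) h.z_mem
    rwa [show z⁻¹ * (z * u * z⁻¹) * z = u by group] at h2)
  have h3 := (h.outside_unique (hu.conj z) hu h1 (inv_mem hx) hx e).2
  have hx1 : x = 1 := by
    refine h.fpf h.invol hx ?_
    have h4 := h.inverts h.invol h.z_mem hx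
    rw [h3] at h4
    exact mul_inv_eq_iff_eq_mul.1 h4
  rw [hx1, mul_one]
  exact ⟨hu, huN⟩

/-- The centraliser of `z` is not inside the normaliser. -/
theorem exists_outside (h : Setup M z) : ∃ t : G, t * z = z * t ∧ t ∉ cC M z := by
  by_contra hall
  push Not at hall
  have hcC : centralizer ({z} : Set G) = cC M z :=
    le_antisymm (fun g hg => hall g (mem_centralizer_singleton_iff.1 hg)) inf_le_right
  obtain ⟨P, hP⟩ := (IsPGroup.of_card (p := 2) (n := 1) (by
    rw [Nat.card_zpowers, inv2_iff.1 h.invol, pow_one]) : IsPGroup 2 (zpowers z)).exists_le_sylow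
  haveI : Nontrivial P := ⟨⟨⟨z, hP (mem_zpowers z)⟩, 1, fun e => h.invol.1 (congrArg Subtype.val e)⟩⟩
  haveI := IsPGroup.center_nontrivial P.2
  obtain ⟨w, hw⟩ := exists_prime_orderOf_dvd_card' (G := center (P : Subgroup G)) 2 (by
    obtain ⟨k, hk⟩ := (IsPGroup.iff_card).1 (P.2.to_subgroup (center (P : Subgroup G)))
    rw [hk]
    refine dvd_pow_self 2 fun h0 => ?_
    rw [h0, pow_zero] at hk
    exact Finite.one_lt_card.ne' hk)
  have hwinv : Inv2 ((w : P) : G) := inv2_iff.2 (by rwa [orderOf_coe, orderOf_coe])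
  have hwc : ∀ x ∈ (P : Subgroup G), ((w : P) : G) * x = x * ((w : P) : G) := fun x hx =>
    (congrArg Subtype.val (mem_center_iff.1 w.2 ⟨x, hx⟩)).symm
  have hwz : ((w : P) : G) = z := h.eq_z hwinv (hall _ (hwc z (hP (mem_zpowers z))))
  -- every involution is conjugate to `z`
  have hclass : ∀ u : G, Inv2 u → ∃ g : G, g * z * g⁻¹ = u := by
    intro u hu
    obtain ⟨Q, hQ⟩ := (IsPGroup.of_card (p := 2) (n := 1) (by
      rw [Nat.card_zpowers, inv2_iff.1 hu, pow_one]) : IsPGroup 2 (zpowers u)).exists_le_sylow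
    obtain ⟨g, hg⟩ := MulAction.exists_smul_eq G Q P
    have h1 : g * u * g⁻¹ ∈ (P : Subgroup G) := by
      rw [← hg]
      exact ⟨u, hQ (mem_zpowers u), rfl⟩
    have h2 := h.eq_z (hu.conj g) (hall _ (by rw [← hwz]; exact (hwc _ h1).symm))
    exact ⟨g⁻¹, by rw [← h2]; group⟩
  have hI : Nat.card {g : G // orderOf g = 2} = (centralizer ({z} : Set G)).index := by
    rw [Subgroup.index]
    refine (Nat.card_congr (Equiv.ofBijective (Quotient.lift
      (fun g => (⟨g * z * g⁻¹, inv2_iff.1 (h.invol.conj g)⟩ : {g : G // orderOf g = 2})) ?_) ⟨?_, ?_⟩)).symm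
    · intro a b hab
      have h1 := mem_centralizer_singleton_iff.1 (QuotientGroup.leftRel_apply.1 hab)
      refine Subtype.ext ?_
      show a * z * a⁻¹ = b * z * b⁻¹
      calc a * z * a⁻¹ = a * (z * (a⁻¹ * b)) * b⁻¹ := by group
        _ = a * ((a⁻¹ * b) * z) * b⁻¹ := by rw [h1]
        _ = _ := by group
    · intro a b e
      induction a using QuotientGroup.induction_on with | H a => ?_
      induction b using QuotientGroup.induction_on with | H b => ?_
      refine QuotientGroup.eq.2 (mem_centralizer_singleton_iff.2 ?_)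
      have e' : a * z * a⁻¹ = b * z * b⁻¹ := congrArg Subtype.val e
      calc a⁻¹ * b * z = a⁻¹ * (b * z * b⁻¹) * b := by group
        _ = _ := by rw [← e']; group
    · intro u
      obtain ⟨g, hg⟩ := hclass u (inv2_iff.2 u.2)
      exact ⟨QuotientGroup.mk g, Subtype.ext hg⟩
  have h1 := h.cosets.2
  have h2 : Nat.card (cC M z) * Nat.card {g : G // orderOf g = 2} = Nat.card G := by
    rw [hI, ← hcC]; exact card_mul_index _
  have h3 : Nat.card M * M.index = Nat.card G := card_mul_index M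
  have h4 := h.many
  have h5 : M.index = Nat.card (cC M z) := by
    have : Nat.card (cC M z) < Nat.card M := by omega
    zify at h1 h2 h3 this ⊢
    have key : ((Nat.card M : ℤ) - Nat.card (cC M z)) * ((M.index : ℤ) - Nat.card (cC M z)) = 0 := by
      linear_combination h3 - h2 + (Nat.card (cC M z) : ℤ) * h1
    rcases mul_eq_zero.1 key with e | e <;> omega
  refine h.not_normal (normalizer_eq_top_iff.1 (eq_top_of_card_eq _ ?_))
  have hN : Nat.card ↥(normalizer (M : Set G)) = Nat.card M * Nat.card (cC M z) := by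
    rw [← Nat.card_prod]
    refine (Nat.card_congr (Equiv.ofBijective (fun p : M × cC M z =>
      (⟨(p.1 : G) * p.2, mul_mem (le_normalizer p.1.2) (h.C_le p.2.2)⟩ : normalizer (M : Set G))) ⟨?_, ?_⟩)).symm
    · intro a b e
      obtain ⟨e1, e2⟩ := h.decomp_unique a.1.2 b.1.2 a.2.2 b.2.2 (congrArg Subtype.val e)
      exact Prod.ext (Subtype.ext e1) (Subtype.ext e2)
    · intro g
      obtain ⟨y, hy, k, hk, e⟩ := h.decomp g.2
      exact ⟨(⟨y, hy⟩, ⟨k, hk⟩), Subtype.ext e.symm⟩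
  rw [hN, ← h3, h5]

/-- An element outside `C` commuting with `z` inverts `C`. -/
theorem inverts_C (h : Setup M z) {t k : G} (ht : t * z = z * t) (htC : t ∉ cC M z) (hk : k ∈ cC M z) :
    t * k * t⁻¹ = k⁻¹ := by
  obtain ⟨hti, -⟩ := h.centralizer_outside ht htC
  have h1 : Inv2 (t * k) := by
    refine (h.centralizer_outside ?_ fun e => htC (by simpa using mul_mem e (inv_mem hk))).1
    rw [mul_assoc, ← (mem_cC.1 hk).2, ← mul_assoc, ht, mul_assoc]
  refine eq_inv_of_mul_eq_one_left ?_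
  rw [hti.inv_eq, ← h1.2]; group

theorem C_comm (h : Setup M z) {a b : G} (ha : a ∈ cC M z) (hb : b ∈ cC M z) : a * b = b * a := by
  obtain ⟨t, ht, htC⟩ := h.exists_outside
  have h1 := h.inverts_C ht htC (mul_mem ha hb)
  rw [show t * (a * b) * t⁻¹ = (t * a * t⁻¹) * (t * b * t⁻¹) by group, h.inverts_C ht htC ha,
    h.inverts_C ht htC hb, _root_.mul_inv_rev] at h1
  have h2 := congrArg (fun w => w⁻¹) h1
  simpa [mul_inv_rev] using h2.symm

theorem eq_one_or_z (h : Setup M z) {k : G} (hk : k ∈ cC M z) (h2 : k * k = 1) : k = 1 ∨ k = z :=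
  or_iff_not_imp_left.2 fun h1 => h.eq_z ⟨h1, h2⟩ hk

/-- `C` acts fixed-point-freely on `M`. -/
theorem C_fpf (h : Setup M z) {k x : G} (hk : k ∈ cC M z) (hk1 : k ≠ 1) (hx : x ∈ M)
    (hc : k * x = x * k) : x = 1 := by
  by_contra hx1
  have hk2 : k * k ≠ 1 := fun e => by
    rcases h.eq_one_or_z hk e with rfl | rfl
    · exact hk1 rfl
    · exact hx1 (h.fpf h.invol hx hc)
  obtain ⟨t, ht, htC⟩ := h.exists_outside
  obtain ⟨hti, htN⟩ := h.centralizer_outside ht htC
  -- elements commuting with `k` and inverted by `z` normalise `M`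
  have claim : ∀ g : G, g * k = k * g → z * g * z⁻¹ = g⁻¹ → g ∈ normalizer (M : Set G) := by
    intro g hgk hgz
    by_contra hgN
    obtain ⟨u, hu, huN, y, hy, rfl⟩ := h.outside_decomp hgN
    have hky : k * y * k⁻¹ ∈ M := h.conj_C hk hy
    have hku : k * u * k⁻¹ ∉ normalizer (M : Set G) := fun hN => huN (by
      have h2 := mul_mem (mul_mem (inv_mem (h.C_le hk)) hN) (h.C_le hk)
      rwa [show k⁻¹ * (k * u * k⁻¹) * k = u by group] at h2)
    obtain ⟨e1, e2⟩ := h.outside_unique (hu.conj k) hu hku hky hy (by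
      calc k * u * k⁻¹ * (k * y * k⁻¹) = k * (u * y) * k⁻¹ := by group
        _ = u * y * k * k⁻¹ := by rw [hgk]
        _ = _ := by group)
    have e3 : z * u * z⁻¹ = y⁻¹ * u * y := by
      have e4 : z * u * z⁻¹ * (z * y * z⁻¹) = y⁻¹ * u := by
        calc z * u * z⁻¹ * (z * y * z⁻¹) = z * (u * y) * z⁻¹ := by group
          _ = (u * y)⁻¹ := hgz
          _ = _ := by rw [_root_.mul_inv_rev, hu.inv_eq]
      rw [h.inverts h.invol h.z_mem hy] at e4
      exact mul_inv_eq_iff_eq_mul.1 e4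
    -- move the involution into the centraliser of `z`
    obtain ⟨r, hr, hry, hrz⟩ := h.sqrt hy
    have hrk : r * k = k * r := by
      obtain ⟨i, rfl⟩ := mem_zpowers_iff.1 hrz
      exact ((show Commute k y from mul_inv_eq_iff_eq_mul.1 e2).zpow_right i).symm.eq
    set v := r⁻¹ * u * r with hv
    have hvz : v * z = z * v := by
      have hzr : z * r * z⁻¹ = r⁻¹ := h.inverts h.invol h.z_mem hr
      have e5 : z * v * z⁻¹ = v := by
        calc z * v * z⁻¹ = (z * r * z⁻¹)⁻¹ * (z * u * z⁻¹) * (z * r * z⁻¹) := by rw [hv]; group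
          _ = r * (y⁻¹ * u * y) * r⁻¹ := by rw [hzr, e3, inv_inv]
          _ = v := by rw [hv, ← hry]; group
      exact (mul_inv_eq_iff_eq_mul.1 e5).symm
    have hvC : v ∉ cC M z := fun hC => huN (by
      have h2 := mul_mem (mul_mem (le_normalizer hr) (h.C_le hC)) (inv_mem (le_normalizer hr) : r⁻¹ ∈ normalizer (M : Set G))
      rwa [hv, show r * (r⁻¹ * u * r) * r⁻¹ = u by group] at h2)
    have hvk : v * k * v⁻¹ = k := by
      refine mul_inv_eq_iff_eq_mul.2 ?_
      have h1 : Commute k u := mul_inv_eq_iff_eq_mul.1 e1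
      exact ((Commute.mul_left ((show Commute r k from hrk).inv_left) h1.symm).mul_left (show Commute r k from hrk)).eq
    rw [h.inverts_C hvz hvC hk] at hvk
    exact hk2 (inv_eq_iff_mul_eq_one.1 hvk)
  have hgk : t * x * t⁻¹ * k = k * (t * x * t⁻¹) := by
    have h1 : t * k⁻¹ * t⁻¹ = k := by rw [h.inverts_C ht htC (inv_mem hk), inv_inv]
    calc t * x * t⁻¹ * k = t * (x * k⁻¹) * t⁻¹ := by
          conv_lhs => rw [← h1]
          group
      _ = t * (k⁻¹ * x) * t⁻¹ := by rw [(show Commute k x from hc).inv_left.eq]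
      _ = (t * k⁻¹ * t⁻¹) * (t * x * t⁻¹) := by group
      _ = _ := by rw [h1]
  have hgz : z * (t * x * t⁻¹) * z⁻¹ = (t * x * t⁻¹)⁻¹ := by
    calc z * (t * x * t⁻¹) * z⁻¹ = (z * t) * x * (z * t)⁻¹ := by group
      _ = t * (z * x * z⁻¹) * t⁻¹ := by rw [← ht]; group
      _ = _ := by rw [h.inverts h.invol h.z_mem hx]; group
  obtain ⟨y, hy, k', hk', e⟩ := h.decomp (claim _ hgk hgz)
  rw [e] at hgz
  have h1 : z * (y * k') * z⁻¹ = y⁻¹ * k' := by
    rw [show z * (y * k') * z⁻¹ = (z * y * z⁻¹) * (z * k' * z⁻¹) by group, h.inverts h.invol h.z_mem hy,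
      show z * k' * z⁻¹ = k' from mul_inv_eq_iff_eq_mul.2 (mem_cC.1 hk').2]
  rw [h1, show (y * k')⁻¹ = k'⁻¹ * y⁻¹ * k'⁻¹⁻¹ * k'⁻¹ by group] at hgz
  have h2 := (h.decomp_unique (inv_mem hy) (h.conj_C (inv_mem hk') (inv_mem hy)) hk' (inv_mem hk') hgz).2
  rcases h.eq_one_or_z hk' (mul_eq_one_iff_eq_inv.2 h2) with rfl | rfl
  · rw [mul_one] at e
    exact htN (h.conj_mem hx hx1 (e ▸ hy))
  · have h3 : Inv2 (t * x * t⁻¹) := e ▸ h.mul_z hy
    have h4 := h3.conj t⁻¹
    rw [show t⁻¹ * (t * x * t⁻¹) * t⁻¹⁻¹ = x by group] at h4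
    exact h.no_inv2 h4 hx

theorem card_normalizer (h : Setup M z) :
    Nat.card ↥(normalizer (M : Set G)) = Nat.card M * Nat.card (cC M z) := by
  rw [← Nat.card_prod]
  refine (Nat.card_congr (Equiv.ofBijective (fun p : M × cC M z =>
    (⟨(p.1 : G) * p.2, mul_mem (le_normalizer p.1.2) (h.C_le p.2.2)⟩ : normalizer (M : Set G))) ⟨?_, ?_⟩)).symm
  · intro a b e
    obtain ⟨e1, e2⟩ := h.decomp_unique a.1.2 b.1.2 a.2.2 b.2.2 (congrArg Subtype.val e)
    exact Prod.ext (Subtype.ext e1) (Subtype.ext e2)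
  · intro g
    obtain ⟨y, hy, k, hk, e⟩ := h.decomp g.2
    exact ⟨(⟨y, hy⟩, ⟨k, hk⟩), Subtype.ext e.symm⟩

/-- `M` is self-centralising in its normaliser. -/
theorem mem_of_commute (h : Setup M z) {x g : G} (hx : x ∈ M) (hx1 : x ≠ 1)
    (hg : g ∈ normalizer (M : Set G)) (hc : g * x = x * g) : g ∈ M := by
  obtain ⟨y, hy, k, hk, rfl⟩ := h.decomp hg
  by_cases hk1 : k = 1
  · rw [hk1, mul_one]; exact hy
  refine absurd (h.C_fpf hk hk1 hx ?_) hx1
  calc k * x = y⁻¹ * (y * k * x) := by group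
    _ = y⁻¹ * (x * (y * k)) := by rw [hc]
    _ = y⁻¹ * ((x * y) * k) := by group
    _ = _ := by rw [h.comm hx hy]; group

/-- `M` meets the conjugates of its normaliser by elements outside trivially. -/
theorem free (h : Setup M z) {g x : G} (hg : g ∉ normalizer (M : Set G)) (hx : x ∈ M)
    (hgx : g * x * g⁻¹ ∈ normalizer (M : Set G)) : x = 1 := by
  obtain ⟨u, hu, huN, y, hy, rfl⟩ := h.outside_decomp hg
  rw [show u * y * x * (u * y)⁻¹ = u * (y * x * y⁻¹) * u⁻¹ by group, h.comm hy hx, mul_inv_cancel_right] at hgx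
  by_contra hx1
  set x' := u * x * u⁻¹ with hx'
  -- the commutator lies in two conjugates of `M`
  have hcm : x' * x * x'⁻¹ * x⁻¹ = 1 := by
    by_contra hne
    refine huN (h.conj_mem (g := u) (mul_mem ((mem_normalizer_iff.1 hgx x).1 hx) (inv_mem hx)) hne ?_)
    have hui := hu.inv_eq
    have hux : u * x' * u⁻¹ = x := by
      rw [hx', show u * (u * x * u⁻¹) * u⁻¹ = (u * u) * x * (u * u)⁻¹ by group, hu.2]; group
    rw [show u * (x' * x * x'⁻¹ * x⁻¹) * u⁻¹ =
      (u * x' * u⁻¹) * (u * x * u⁻¹) * (u * x' * u⁻¹)⁻¹ * (u * x * u⁻¹)⁻¹ by group, hux, ← hx',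
      mul_assoc, mul_assoc]
    refine mul_mem hx ?_
    rw [← mul_assoc]
    exact ((mem_normalizer_iff.1 hgx _).1 (inv_mem hx))
  have hcc : x' * x = x * x' := mul_inv_eq_iff_eq_mul.1 (mul_inv_eq_one.1 hcm)
  exact huN (h.conj_mem hx hx1 (h.mem_of_commute hx hx1 hgx hcc))

/-- An involution outside the normaliser commutes with some involution of the coset `M z`. -/
theorem exists_commuting (h : Setup M z) {u : G} (hu : Inv2 u) (huN : u ∉ normalizer (M : Set G)) :
    ∃ r ∈ M, (r⁻¹ * u * r) * z = z * (r⁻¹ * u * r) ∧ r⁻¹ * u * r ∉ cC M z := by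
  have huz : u * z ∉ normalizer (M : Set G) := fun hN => huN (by simpa using mul_mem hN (inv_mem h.z_mem))
  obtain ⟨v, hv, -, x, hx, e⟩ := h.outside_decomp huz
  have hzx : z * x⁻¹ = x * z := by
    rw [← h.inverts h.invol h.z_mem hx, h.invol.inv_eq, ← mul_assoc, ← mul_assoc, h.invol.2, one_mul]
  have hcomm : u * (x * z) = (x * z) * u := by
    have e1 : v = u * (x * z) := by
      rw [← hzx, ← mul_assoc, e, mul_inv_cancel_right]
    have h1 := hv.inv_eq
    rw [e1, _root_.mul_inv_rev, (h.mul_z hx).inv_eq, hu.inv_eq] at h1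
    exact h1.symm
  obtain ⟨r, hr, hrx, -⟩ := h.sqrt hx
  have hrz : r * z * r⁻¹ = x * z := by
    rw [← hrx]
    calc r * z * r⁻¹ = r * (z * r⁻¹ * z⁻¹) * z := by group
      _ = _ := by rw [h.inverts h.invol h.z_mem (inv_mem hr), inv_inv]
  refine ⟨r, hr, ?_, fun hC => huN ?_⟩
  · calc r⁻¹ * u * r * z = r⁻¹ * (u * (r * z * r⁻¹)) * r := by group
      _ = r⁻¹ * ((r * z * r⁻¹) * u) * r := by rw [hrz, hcomm]
      _ = _ := by group
  · have h2 := mul_mem (mul_mem (le_normalizer hr) (h.C_le hC)) (inv_mem (le_normalizer hr) : r⁻¹ ∈ normalizer (M : Set G))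
    rwa [show r * (r⁻¹ * u * r) * r⁻¹ = u by group] at h2

end Setup

end CfsgLib.LocalEven.InvolutionCount
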