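import Cfsg.Agent.Lib.LocalEven.InvolutionCount.Basic

/-!
Counting the involutions through the centraliser of `z`: the two configurations.
-/

set_option autoImplicit false

namespace CfsgLib.LocalEven.InvolutionCount

open Subgroup

variable {G : Type*} [Group G] [Finite G] {M : Subgroup G} {z : G}

theorem card_dvd_of_free {E α : Type*} [Group E] [MulAction E α]
    (hfree : ∀ a : α, MulAction.stabilizer E a = ⊥) : Nat.card E ∣ Nat.card α := by
  have e : α ≃ MulAction.orbitRel.Quotient E α × E :=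
    (MulAction.selfEquivSigmaOrbitsQuotientStabilizer E α).trans
      ((Equiv.sigmaCongrRight fun ω => (Subgroup.quotientEquivOfEq (hfree _)).trans
        (QuotientGroup.quotientBot).toEquiv).trans (Equiv.sigmaEquivProd _ _))
  rw [Nat.card_congr e, Nat.card_prod]
  exact dvd_mul_left _ _

/-- The centraliser of `z`. -/
abbrev cK (z : G) : Subgroup G := centralizer ({z} : Set G)

/-- The elements of `C(z)` outside `C`. -/
abbrev Outer (M : Subgroup G) (z : G) : Type _ := {t : G // t * z = z * t ∧ t ∉ cC M z}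

/-- The ones among them conjugate to `z`. -/
abbrev OuterConj (M : Subgroup G) (z : G) : Type _ :=
  {t : G // (t * z = z * t ∧ t ∉ cC M z) ∧ IsConj z t}

namespace Setup

/-- The involutions outside the normaliser are parametrised by `M` and `C(z) \ C`. -/
theorem param (h : Setup M z) :
    Function.Bijective (fun p : M × Outer M z =>
      (⟨(p.1 : G) * p.2 * (p.1 : G)⁻¹, (h.centralizer_outside p.2.2.1 p.2.2.2).1.conj _, fun hN =>
        (h.centralizer_outside p.2.2.1 p.2.2.2).2 (by
          have h2 := mul_mem (mul_mem (inv_mem (le_normalizer p.1.2) : (p.1 : G)⁻¹ ∈ normalizer (M : Set G)) hN)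
            (le_normalizer p.1.2)
          rwa [show (p.1 : G)⁻¹ * ((p.1 : G) * p.2 * (p.1 : G)⁻¹) * p.1 = p.2 by group] at h2)⟩ :
        {u : G // Inv2 u ∧ u ∉ normalizer (M : Set G)})) := by
  constructor
  · rintro ⟨r, t, ht, htC⟩ ⟨r', t', ht', htC'⟩ e
    have e' : (r : G) * t * (r : G)⁻¹ = (r' : G) * t' * (r' : G)⁻¹ := congrArg Subtype.val e
    obtain ⟨hti, htN⟩ := h.centralizer_outside ht htC
    -- the involution commutes with two members of `M z`
    set u := (r : G) * t * (r : G)⁻¹ with hu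
    have hz2 : ∀ a : M, (a : G) * z * (a : G)⁻¹ = (a : G) * a * z := fun a => by
      calc (a : G) * z * (a : G)⁻¹ = (a : G) * (z * (a : G)⁻¹ * z⁻¹) * z := by group
        _ = _ := by rw [h.inverts h.invol h.z_mem (inv_mem a.2), inv_inv]
    have hc : ∀ (a : M) (s : G), s * z = z * s → u = (a : G) * s * (a : G)⁻¹ →
        u * ((a : G) * a * z) = ((a : G) * a * z) * u := by
      intro a s hs hus
      rw [hus, ← hz2]
      calc (a : G) * s * (a : G)⁻¹ * ((a : G) * z * (a : G)⁻¹) = (a : G) * (s * z) * (a : G)⁻¹ := by group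
        _ = (a : G) * (z * s) * (a : G)⁻¹ := by rw [hs]
        _ = _ := by group
    have h1 : Commute u ((r : G) * r * z) := hc r t ht rfl
    have h2 : Commute u ((r' : G) * r' * z) := hc r' t' ht' e'
    set y := (r : G) * r * ((r' : G) * r')⁻¹ with hy
    have hyc : Commute u y := by
      have : y = ((r : G) * r * z) * ((r' : G) * r' * z)⁻¹ := by rw [hy]; group
      rw [this]
      exact h1.mul_right h2.inv_right
    have hyM : y ∈ M := mul_mem (mul_mem r.2 r.2) (inv_mem (mul_mem r'.2 r'.2))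
    have hy1 : y = 1 := by
      by_contra hne
      refine htN ?_
      have h3 : u ∈ normalizer (M : Set G) :=
        h.conj_mem hyM hne (by rw [hyc.eq, mul_inv_cancel_right]; exact hyM)
      have h4 := mul_mem (mul_mem (inv_mem (le_normalizer r.2) : (r : G)⁻¹ ∈ normalizer (M : Set G)) h3)
        (le_normalizer r.2)
      rwa [hu, show (r : G)⁻¹ * ((r : G) * t * (r : G)⁻¹) * r = t by group] at h4
    have hrr : (r : G) = r' := by
      have h3 : ((r : G) * (r' : G)⁻¹) ^ 2 = 1 := by
        rw [pow_two, ← hy1, hy]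
        have hc' : Commute (r : G) (r' : G)⁻¹ := h.comm r.2 (inv_mem r'.2)
        calc (r : G) * (r' : G)⁻¹ * ((r : G) * (r' : G)⁻¹) = (r : G) * ((r' : G)⁻¹ * r) * (r' : G)⁻¹ := by group
          _ = (r : G) * ((r : G) * (r' : G)⁻¹) * (r' : G)⁻¹ := by rw [hc'.eq]
          _ = _ := by group
      by_contra hne
      refine h.no_inv2 (inv2_iff.2 (orderOf_eq_prime h3 fun e1 => hne (mul_inv_eq_one.1 e1)))
        (mul_mem r.2 (inv_mem r'.2))
    obtain rfl : r = r' := Subtype.ext hrr
    refine Prod.ext rfl (Subtype.ext ?_)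
    exact mul_left_cancel (mul_right_cancel e')
  · rintro ⟨u, hu, huN⟩
    obtain ⟨r, hr, hc, hC⟩ := h.exists_commuting hu huN
    exact ⟨(⟨r, hr⟩, ⟨r⁻¹ * u * r, hc, hC⟩), Subtype.ext (by group)⟩

theorem card_outer (h : Setup M z) : Nat.card (Outer M z) + Nat.card (cC M z) = Nat.card (cK z) := by
  classical
  haveI : Fintype G := Fintype.ofFinite G
  have hle : cC M z ≤ cK z := inf_le_right
  rw [Nat.card_eq_fintype_card, Nat.card_eq_fintype_card, Nat.card_eq_fintype_card, Fintype.card_subtype,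
    Fintype.card_subtype, Fintype.card_subtype, ← Finset.card_union_of_disjoint]
  · congr 1
    ext g
    simp only [Finset.mem_union, Finset.mem_filter, Finset.mem_univ, true_and, mem_centralizer_singleton_iff]
    constructor
    · rintro (⟨h1, -⟩ | h1)
      · exact h1
      · exact mem_centralizer_singleton_iff.1 (hle h1)
    · intro h1
      by_cases hC : g ∈ cC M z
      · exact Or.inr hC
      · exact Or.inl ⟨h1, hC⟩
  · rw [Finset.disjoint_left]
    intro g h1 h2
    exact (Finset.mem_filter.1 h1).2.2 (Finset.mem_filter.1 h2).2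

theorem card_invol (h : Setup M z) :
    Nat.card {g : G // orderOf g = 2} = Nat.card M + Nat.card M * Nat.card (Outer M z) := by
  classical
  haveI : Fintype G := Fintype.ofFinite G
  rw [← Nat.card_prod, Nat.card_congr (Equiv.ofBijective _ h.param)]
  have e1 : Nat.card M = Nat.card {u : G // Inv2 u ∧ u ∈ normalizer (M : Set G)} :=
    Nat.card_congr (Equiv.ofBijective (fun y : M =>
      (⟨(y : G) * z, h.mul_z y.2, mul_mem (le_normalizer y.2) h.z_mem⟩ :
        {u : G // Inv2 u ∧ u ∈ normalizer (M : Set G)})) ⟨fun a b e => Subtype.ext (mul_right_cancel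
          (congrArg Subtype.val e)), fun ⟨u, hu, huN⟩ => by
        obtain ⟨y, hy, e⟩ := h.invol_normalizer hu huN
        exact ⟨⟨y, hy⟩, Subtype.ext e.symm⟩⟩)
  rw [e1, ← Nat.card_sum]
  exact Nat.card_congr (((Equiv.subtypeEquivRight fun g => inv2_iff.symm).trans
    (Equiv.sumCompl (fun u : {g : G // Inv2 g} => (u : G) ∈ normalizer (M : Set G))).symm).trans
      (Equiv.sumCongr (Equiv.subtypeSubtypeEquivSubtypeInter _ _) (Equiv.subtypeSubtypeEquivSubtypeInter (fun g : G => Inv2 g) (fun g => g ∉ normalizer (M : Set G)))))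

theorem index_eq (h : Setup M z) :
    M.index = Nat.card (cC M z) + Nat.card M * Nat.card (Outer M z) := by
  have h1 := h.cosets.2
  rw [h.card_invol] at h1
  omega

/-- The class of `z`. -/
theorem class_eq (h : Setup M z) : M.index = Nat.card (cK z) * (1 + Nat.card (OuterConj M z)) := by
  classical
  haveI : Fintype G := Fintype.ofFinite G
  have hI : Nat.card {u : G // IsConj z u} = (cK z).index := by
    rw [Subgroup.index]
    refine (Nat.card_congr (Equiv.ofBijective (Quotient.lift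
      (fun g => (⟨g * z * g⁻¹, isConj_iff.2 ⟨g, rfl⟩⟩ : {u : G // IsConj z u})) ?_) ⟨?_, ?_⟩)).symm
    · intro a b hab
      have h1 := mem_centralizer_singleton_iff.1 (QuotientGroup.leftRel_apply.1 hab)
      refine Subtype.ext ?_
      show a * z * a⁻¹ = b * z * b⁻¹
      calc a * z * a⁻¹ = a * (z * (a⁻¹ * b)) * b⁻¹ := by group
        _ = a * ((a⁻¹ * b) * z) * b⁻¹ := by rw [h1]
        _ = _ := by group
    · intro a b e
      induction a using QuotientGroup.induction_on with | H a => ?_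
      induction b using QuotientGroup.induction_on with | H b => ?_
      refine QuotientGroup.eq.2 (mem_centralizer_singleton_iff.2 ?_)
      have e' : a * z * a⁻¹ = b * z * b⁻¹ := congrArg Subtype.val e
      calc a⁻¹ * b * z = a⁻¹ * (b * z * b⁻¹) * b := by group
        _ = _ := by rw [← e']; group
    · rintro ⟨u, hu⟩
      obtain ⟨g, hg⟩ := isConj_iff.1 hu
      exact ⟨QuotientGroup.mk g, Subtype.ext hg⟩
  have hrz : ∀ y ∈ M, IsConj z (y * z) := by
    intro y hy
    obtain ⟨r, hr, hry, -⟩ := h.sqrt hy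
    refine isConj_iff.2 ⟨r, ?_⟩
    calc r * z * r⁻¹ = r * (z * r⁻¹ * z⁻¹) * z := by group
      _ = _ := by rw [h.inverts h.invol h.z_mem (inv_mem hr), inv_inv, hry]
  have hinv : ∀ u, IsConj z u → Inv2 u := fun u hu => by
    obtain ⟨g, rfl⟩ := isConj_iff.1 hu
    exact h.invol.conj g
  let f : M ⊕ (M × OuterConj M z) → {u : G // IsConj z u} := fun x => match x with
    | Sum.inl y => ⟨(y : G) * z, hrz y y.2⟩
    | Sum.inr p => ⟨(p.1 : G) * p.2 * (p.1 : G)⁻¹, p.2.2.2.trans (isConj_iff.2 ⟨(p.1 : G), rfl⟩)⟩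
  have hparam := h.param
  have hf : Function.Bijective f := by
    have hsplit : ∀ (y : M) (p : M × OuterConj M z), (y : G) * z ≠ (p.1 : G) * p.2 * (p.1 : G)⁻¹ := by
      rintro y ⟨r, t, ⟨ht, htC⟩, htz⟩ hyz
      refine (h.centralizer_outside ht htC).2 ?_
      have h2 := mul_mem (mul_mem (inv_mem (le_normalizer r.2) : (r : G)⁻¹ ∈ normalizer (M : Set G))
        (mul_mem (le_normalizer y.2) h.z_mem)) (le_normalizer r.2)
      rwa [hyz, show (r : G)⁻¹ * ((r : G) * t * (r : G)⁻¹) * r = t by group] at h2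
    refine ⟨?_, ?_⟩
    · rintro (y | ⟨r, t⟩) (y' | ⟨r', t'⟩) e
      · exact congrArg Sum.inl (Subtype.ext (mul_right_cancel (congrArg Subtype.val e)))
      · exact absurd (congrArg Subtype.val e) (hsplit y (r', t'))
      · exact absurd (congrArg Subtype.val e).symm (hsplit y' (r, t))
      · have e0 : (r : G) * t * (r : G)⁻¹ = (r' : G) * t' * (r' : G)⁻¹ := congrArg Subtype.val e
        have e1 := @hparam.1 (r, ⟨t, t.2.1⟩) (r', ⟨t', t'.2.1⟩) (Subtype.ext e0)
        obtain ⟨e2, e3⟩ := Prod.ext_iff.1 e1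
        exact congrArg Sum.inr (Prod.ext e2 (Subtype.ext (congrArg (fun w : Outer M z => (w : G)) e3)))
    · rintro ⟨u, hu⟩
      by_cases huN : u ∈ normalizer (M : Set G)
      · obtain ⟨y, hy, e⟩ := h.invol_normalizer (hinv u hu) huN
        exact ⟨Sum.inl ⟨y, hy⟩, Subtype.ext e.symm⟩
      · obtain ⟨⟨r, t, ht⟩, e⟩ := hparam.2 ⟨u, hinv u hu, huN⟩
        have e' : (r : G) * t * (r : G)⁻¹ = u := congrArg Subtype.val e
        exact ⟨Sum.inr (r, ⟨t, ht, hu.trans (isConj_iff.2 ⟨(r : G)⁻¹, by rw [← e']; group⟩)⟩), Subtype.ext e'⟩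
  have h1 := Nat.card_congr (Equiv.ofBijective f hf)
  rw [Nat.card_sum, Nat.card_prod, hI] at h1
  refine Nat.eq_of_mul_eq_mul_left (Nat.card_pos (α := M)) ?_
  rw [Subgroup.card_mul_index, ← Subgroup.card_mul_index (cK z), ← h1]
  ring

theorem card_outerConj_le (_h : Setup M z) : Nat.card (OuterConj M z) ≤ Nat.card (Outer M z) :=
  Nat.card_le_card_of_injective (fun t => (⟨t, t.2.1⟩ : Outer M z))
    fun _ _ e => Subtype.ext (congrArg Subtype.val e :)

theorem two_le_C (h : Setup M z) : 2 ≤ Nat.card (cC M z) := by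
  refine (Subgroup.one_lt_card_iff_ne_bot _).2 fun e => h.invol.1 ?_
  have := h.z_mem_C
  rwa [e, mem_bot] at this

theorem eq_two_or_index_two (h : Setup M z) :
    Nat.card (cC M z) = 2 ∨ Nat.card (Outer M z) = Nat.card (cC M z) := by
  by_cases hall : ∀ t₁ t₂ : Outer M z, (t₁ : G) * t₂ ∈ cC M z
  · right
    obtain ⟨t, ht, htC⟩ := h.exists_outside
    refine Nat.card_congr ⟨fun s => ⟨t * s, hall ⟨t, ht, htC⟩ s⟩, fun k => ⟨t⁻¹ * k, ?_, fun e => htC ?_⟩,
      fun s => Subtype.ext (by group), fun k => Subtype.ext (by group)⟩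
    · exact ((Commute.inv_left (show Commute t z from ht)).mul_left (show Commute (k : G) z from (mem_cC.1 k.2).2.symm)).eq
    · have := mul_mem k.2 (inv_mem e)
      rwa [show (k : G) * (t⁻¹ * k)⁻¹ = t by group] at this
  left
  classical
  push Not at hall
  obtain ⟨⟨t₁, h1, h1C⟩, ⟨t₂, h2, h2C⟩, h12⟩ := hall
  have hsq : ∀ k ∈ cC M z, k = 1 ∨ k = z := by
    intro k hk
    refine h.eq_one_or_z hk ?_
    have e1 := h.inverts_C (show t₁ * t₂ * z = z * (t₁ * t₂) by
      rw [mul_assoc, h2, ← mul_assoc, h1, mul_assoc]) h12 hk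
    rw [show t₁ * t₂ * k * (t₁ * t₂)⁻¹ = t₁ * (t₂ * k * t₂⁻¹) * t₁⁻¹ by group, h.inverts_C h2 h2C hk,
      h.inverts_C h1 h1C (inv_mem hk), inv_inv] at e1
    exact inv_eq_iff_mul_eq_one.1 e1.symm
  refine le_antisymm ?_ h.two_le_C
  calc Nat.card (cC M z) ≤ Nat.card (Fin 2) := Nat.card_le_card_of_injective
        (fun k => if (k : G) = 1 then (0 : Fin 2) else 1) (fun a b e => Subtype.ext (by
          rcases hsq a a.2 with ha | ha <;> rcases hsq b b.2 with hb | hb <;>
            simp [ha, hb, h.invol.1] at e ⊢))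
    _ = 2 := by simp

theorem C_dvd (h : Setup M z) : Nat.card (cC M z) ∣ Nat.card M - 1 := by
  classical
  haveI : Fintype G := Fintype.ofFinite G
  letI : MulAction (cC M z) {x : M // x ≠ 1} :=
    { smul := fun k x => ⟨⟨(k : G) * (x : M) * (k : G)⁻¹, h.conj_C k.2 x.1.2⟩, fun e => x.2 (Subtype.ext (by
        have e' : (k : G) * (x : M) * (k : G)⁻¹ = 1 := congrArg Subtype.val e
        rwa [mul_inv_eq_one, mul_eq_left] at e'))⟩
      one_smul := fun x => Subtype.ext (Subtype.ext (by show (1 : G) * (x : M) * 1⁻¹ = _; group))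
      mul_smul := fun a b x => Subtype.ext (Subtype.ext (by
        show (a : G) * b * (x : M) * ((a : G) * b)⁻¹ = (a : G) * ((b : G) * (x : M) * (b : G)⁻¹) * (a : G)⁻¹
        group)) }
  have hfree : ∀ x : {x : M // x ≠ 1}, MulAction.stabilizer (cC M z) x = ⊥ := by
    intro x
    rw [eq_bot_iff]
    intro k hk
    rw [mem_bot]
    by_contra hk1
    have e : (k : G) * (x : M) * (k : G)⁻¹ = ((x : M) : G) := congrArg (fun y : {x : M // x ≠ 1} => ((y : M) : G)) (MulAction.mem_stabilizer_iff.1 hk)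
    exact x.2 (Subtype.ext (h.C_fpf k.2 (fun e1 => hk1 (Subtype.ext e1)) x.1.2 (mul_inv_eq_iff_eq_mul.1 e)))
  have h1 := card_dvd_of_free hfree
  rwa [Nat.card_eq_fintype_card (α := {x : M // x ≠ 1}), Fintype.card_subtype_compl, Fintype.card_subtype_eq,
    ← Nat.card_eq_fintype_card] at h1

/-- The first configuration: `C = ⟨z⟩`. -/
theorem case_small (h : Setup M z) (hc : Nat.card (cC M z) = 2) :
    (∀ g : G, g * z = z * g → g * g = 1) ∧ ∃ d : ℕ, 1 ≤ d ∧ Nat.card (cK z) = 2 ^ (d + 1) ∧
      ((Nat.card M = 2 ^ d + 1 ∧ Nat.card (OuterConj M z) + 1 = 2 ^ d) ∨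
        (Nat.card M = 2 ^ (d + 1) + 1 ∧ Nat.card (OuterConj M z) = Nat.card (Outer M z))) := by
  have hsq : ∀ g : G, g * z = z * g → g * g = 1 := by
    intro g hg
    by_cases hC : g ∈ cC M z
    · haveI : Finite (cC M z) := inferInstance
      have h1 : (⟨g, hC⟩ : cC M z) ^ 2 = 1 := hc ▸ pow_card_eq_one'
      rw [← pow_two]
      exact congrArg Subtype.val h1
    · exact (h.centralizer_outside hg hC).1.2
  refine ⟨hsq, ?_⟩
  have hKp : IsPGroup 2 (cK z) := fun g => ⟨1, Subtype.ext (by
    rw [pow_one, pow_two]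
    exact hsq g (mem_centralizer_singleton_iff.1 g.2))⟩
  obtain ⟨e, he⟩ := IsPGroup.iff_card.1 hKp
  have hout := h.card_outer
  obtain ⟨t, ht, htC⟩ := h.exists_outside
  haveI : Nonempty (Outer M z) := ⟨⟨t, ht, htC⟩⟩
  have hpos : 0 < Nat.card (Outer M z) := Nat.card_pos
  obtain ⟨d, rfl⟩ : ∃ d, e = d + 1 := ⟨e - 1, by rcases e with _ | e <;> [rw [pow_zero] at he; skip] <;> omega⟩
  refine ⟨d, ?_, he, ?_⟩
  · rcases d with _ | d
    · rw [zero_add, pow_one] at he; omega
    · omega
  set r := 2 ^ d with hr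
  have hK : Nat.card (cK z) = 2 * r := by rw [he, hr, pow_succ]; ring
  have hidx := h.index_eq
  have hcls := h.class_eq
  have hk := h.card_outerConj_le
  have hodd := h.odd_card
  have hm1 := h.one_lt_card
  set m := Nat.card M with hm
  set k := Nat.card (OuterConj M z) with hkdef
  set o := Nat.card (Outer M z) with ho
  rw [hc] at hidx hout
  rw [hK] at hout hcls
  have hr2 : 2 ≤ r := by
    rcases d with _ | d
    · rw [zero_add, pow_one] at he; omega
    · rw [hr, pow_succ]; have : 0 < 2 ^ d := by positivity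
      omega
  obtain ⟨r', hr'⟩ : ∃ r', r = r' + 1 := ⟨r - 1, by omega⟩
  have ho' : o = 2 * r' := by omega
  have key : 1 + m * r' = r * (1 + k) := by
    have : 2 * (1 + m * r') = 2 * (r * (1 + k)) := by
      calc 2 * (1 + m * r') = 2 + m * o := by rw [ho']; ring
        _ = _ := by rw [← hidx, hcls]; ring
    omega
  obtain ⟨q, hq⟩ : ∃ q, m = q + 1 := ⟨m - 1, by omega⟩
  -- `r` divides `m - 1`
  have hdvd : r ∣ q := by
    have e1 : r * (1 + k) + q = r * m := by
      rw [← key, hr', hq]; ring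
    exact (Nat.dvd_add_right ⟨1 + k, rfl⟩).1 (e1 ▸ Dvd.intro m rfl)
  obtain ⟨j, hj⟩ := hdvd
  have hbound : 1 + m * r' ≤ r * (2 * r' + 1) := key ▸ Nat.mul_le_mul_left _ (by omega)
  rw [hq, hj, hr'] at hbound key
  have hj2 : j ≤ 2 := by
    by_contra hj3
    push Not at hj3
    have h3 : ((r' + 1) * 3 + 1) * r' ≤ ((r' + 1) * j + 1) * r' := by gcongr; omega
    nlinarith
  rcases j with _ | _ | _ | j
  · omega
  · left
    refine ⟨by rw [hq, hj]; ring, ?_⟩
    have h4 : (r' + 1) * (1 + k) = (r' + 1) * (r' + 1) := by rw [← key]; ring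
    have := Nat.eq_of_mul_eq_mul_left (Nat.succ_pos r') h4
    omega
  · right
    refine ⟨by rw [hq, hj, pow_succ, hr], ?_⟩
    have h4 : (r' + 1) * (1 + k) = (r' + 1) * (2 * r' + 1) := by rw [← key]; ring
    have := Nat.eq_of_mul_eq_mul_left (Nat.succ_pos r') h4
    omega
  · omega

/-- The second configuration: `C(z) = C⟨t⟩`. -/
theorem case_big (h : Setup M z) (hc : Nat.card (cC M z) ≠ 2) :
    Nat.card (Outer M z) = Nat.card (cC M z) ∧ 2 ∣ Nat.card (cC M z) ∧ 0 < Nat.card (OuterConj M z) ∧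
      M.index = Nat.card (cC M z) * (Nat.card M + 1) ∧
      (Nat.card (cC M z) + 1 = Nat.card M ∨ 2 * Nat.card (cC M z) + 1 = Nat.card M) := by
  have ho := (h.eq_two_or_index_two).resolve_left hc
  have hout := h.card_outer
  have hidx := h.index_eq
  have hcls := h.class_eq
  have hk := h.card_outerConj_le
  have hm1 := h.one_lt_card
  have hc2 := h.two_le_C
  have hodd := h.odd_card
  have heven := even_card_of_inv2_mem h.invol h.z_mem_C
  obtain ⟨j, hj⟩ := h.C_dvd
  rw [ho] at hout hidx hk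
  set m := Nat.card M with hm
  set k := Nat.card (OuterConj M z) with hkdef
  set c := Nat.card (cC M z) with hcdef
  have hidx' : M.index = c * (m + 1) := by rw [hidx]; ring
  have hkm : m + 1 = 2 * (1 + k) := by
    refine Nat.eq_of_mul_eq_mul_left (show 0 < c by omega) ?_
    rw [← hidx', hcls, ← hout]; ring
  have hj1 : j = 1 ∨ j = 2 := by
    rcases j with _ | _ | _ | j
    · omega
    · exact Or.inl rfl
    · exact Or.inr rfl
    · exfalso
      have : c * 3 ≤ c * (j + 1 + 1 + 1) := Nat.mul_le_mul_left _ (by omega)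
      omega
  refine ⟨ho, heven, ?_, hidx', ?_⟩
  · rcases hj1 with rfl | rfl <;> omega
  · rcases hj1 with rfl | rfl <;> [left; right] <;> omega

end Setup

end CfsgLib.LocalEven.InvolutionCount
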