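import Cfsg.Agent.Lib.LocalEven.InvolutionCount.Count
import Cfsg.Agent.Lib.SmallGroups.SharpThreeField
import Cfsg.Agent.Lib.SmallGroups.ZassenhausHalf.Recognition

/-!
The configuration `C(z) = C⟨t⟩`: `G` is two-transitive on the cosets of the normaliser of `M`, and is
`PGL₂` or `PSL₂`.
-/

set_option autoImplicit false

namespace CfsgLib.LocalEven.InvolutionCount

open Subgroup MulAction Cfsg

variable {G : Type*} [Group G] [Finite G] {M : Subgroup G} {z : G}

namespace Setup

/-- `M` is elementary abelian when `C` moves more than half of it at once. -/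
theorem elementary (h : Setup M z) {p f : ℕ} (hp : p.Prime) (hm : Nat.card M = p ^ f)
    (hbig : Nat.card M ≤ 2 * Nat.card (cC M z) + 1) : IsElementaryAbelian p M := by
  classical
  haveI := Fact.mk hp
  refine ⟨⟨⟨fun a b => Subtype.ext (h.comm a.2 b.2)⟩⟩, ?_⟩
  let S : Subgroup G :=
    { carrier := {x | x ∈ M ∧ x ^ p = 1}
      one_mem' := ⟨one_mem M, one_pow p⟩
      mul_mem' := fun {a b} ha hb => ⟨mul_mem ha.1 hb.1, by
        rw [(show Commute a b from h.comm ha.1 hb.1).mul_pow, ha.2, hb.2, one_mul]⟩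
      inv_mem' := fun {a} ha => ⟨inv_mem ha.1, by rw [inv_pow, ha.2, inv_one]⟩ }
  have hSM : S ≤ M := fun x hx => hx.1
  suffices hS : S = M from fun a ha => (hS.ge ha).2
  have hpm : p ∣ Nat.card M := by
    rcases f with _ | f
    · rw [pow_zero] at hm; exact absurd h.one_lt_card (by omega)
    · exact hm ▸ dvd_pow_self p (Nat.succ_ne_zero f)
  obtain ⟨⟨x, hxM⟩, hx⟩ := exists_prime_orderOf_dvd_card' p hpm
  rw [orderOf_mk] at hx
  have hxS : x ∈ S := ⟨hxM, hx ▸ pow_orderOf_eq_one x⟩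
  have hx1 : x ≠ 1 := fun e => hp.ne_one (by rw [← hx, e, orderOf_one])
  have hc : Nat.card (cC M z) + 1 ≤ Nat.card S := by
    let f : Option (cC M z) → S := fun o => match o with
      | none => 1
      | some k => ⟨(k : G) * x * (k : G)⁻¹, h.conj_C k.2 hxM, by rw [conj_pow, hxS.2, mul_one, mul_inv_cancel]⟩
    have hne : ∀ k : cC M z, (f (some k) : G) ≠ 1 := fun k e => hx1 (by
      have e' : (k : G) * x * (k : G)⁻¹ = 1 := e
      rwa [mul_inv_eq_one, mul_eq_left] at e')
    have hf : Function.Injective f := by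
      rintro (_ | a) (_ | b) e
      · rfl
      · exact absurd (congrArg Subtype.val e).symm (hne b)
      · exact absurd (congrArg Subtype.val e) (hne a)
      · have e' : (a : G) * x * (a : G)⁻¹ = (b : G) * x * (b : G)⁻¹ := congrArg Subtype.val e
        by_contra hab
        refine hx1 (h.C_fpf (k := (b : G)⁻¹ * a) (mul_mem (inv_mem b.2) a.2) (fun e1 => hab ?_) hxM ?_)
        · rw [show a = b from Subtype.ext (inv_mul_eq_one.1 e1).symm]
        · calc (b : G)⁻¹ * a * x = (b : G)⁻¹ * ((a : G) * x * (a : G)⁻¹) * a := by group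
            _ = _ := by rw [e']; group
    haveI : Fintype (cC M z) := Fintype.ofFinite _
    calc _ = Nat.card (Option (cC M z)) := by
          rw [Nat.card_eq_fintype_card, Nat.card_eq_fintype_card, Fintype.card_option]
      _ ≤ _ := Nat.card_le_card_of_injective f hf
  refine eq_of_le_of_card_ge hSM ?_
  obtain ⟨j, hj⟩ := card_dvd_of_le hSM
  have hjo : Odd j := h.odd_card.of_dvd_nat ⟨Nat.card S, by rw [hj]; ring⟩
  have hj1 : j = 1 := by
    by_contra hne
    have h3 : 3 ≤ j := by rcases hjo with ⟨i, rfl⟩; omega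
    have : Nat.card S * 3 ≤ Nat.card M := hj ▸ Nat.mul_le_mul_left _ h3
    omega
  rw [hj, hj1, mul_one]

/-- The second configuration. -/
theorem big (h : Setup M z) (hc : Nat.card (cC M z) ≠ 2) :
    ∃ (F : Type) (_ : Field F) (_ : Fintype F) (p : ℕ) (_ : Fact p.Prime) (_ : CharP F p),
      Fintype.card F = Nat.card M ∧ IsElementaryAbelian p M ∧
        (Nonempty (G ≃* (GL (Fin 2) F ⧸ Subgroup.center (GL (Fin 2) F))) ∨
          (Fintype.card F % 4 = 1 ∧ Nonempty (G ≃* Matrix.ProjectiveSpecialLinearGroup (Fin 2) F))) := by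
  classical
  obtain ⟨-, heven, hk, hidx, hcase⟩ := h.case_big hc
  obtain ⟨⟨t, ⟨ht, htC⟩, htz⟩⟩ := (Nat.card_pos_iff.1 hk).1
  obtain ⟨hti, htN⟩ := h.centralizer_outside ht htC
  obtain ⟨g0, hg0⟩ := isConj_iff.1 htz
  have hc2 := h.two_le_C
  have hm1 := h.one_lt_card
  set N : Subgroup G := normalizer (M : Set G) with hN
  haveI : Fintype (G ⧸ N) := Fintype.ofFinite _
  have hmk : ∀ g a : G, g • (QuotientGroup.mk a : G ⧸ N) = QuotientGroup.mk (g * a) := fun _ _ => rfl
  set α : G ⧸ N := QuotientGroup.mk 1 with hα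
  set β : G ⧸ N := QuotientGroup.mk t with hβ
  have hfixα : ∀ g : G, g • α = α ↔ g ∈ N := fun g => by
    rw [hα, hmk, QuotientGroup.eq, mul_one, mul_one, inv_mem_iff]
  have hαβ : α ≠ β := fun e => htN (by
    have h1 := QuotientGroup.eq.1 e
    rwa [inv_one, one_mul] at h1)
  have htα : t • α = β := by rw [hα, hmk, mul_one]
  have htβ : t • β = α := by rw [hβ, hmk, hti.2]
  have hCt : ∀ k ∈ cC M z, t * k * t⁻¹ = k⁻¹ := fun k hk' => h.inverts_C ht htC hk'
  have hCα : ∀ k ∈ cC M z, k • α = α := fun k hk' => (hfixα k).2 (h.C_le hk')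
  have hCβ : ∀ k ∈ cC M z, k • β = β := by
    intro k hk'
    have h1 := hCt k⁻¹ (inv_mem hk')
    rw [inv_inv] at h1
    have h2 : k * t = t * k⁻¹ := by
      calc k * t = t * k⁻¹ * t⁻¹ * t := by rw [h1]
        _ = _ := by group
    rw [← htα, ← mul_smul, h2, mul_smul, hCα _ (inv_mem hk')]
  -- `M` is regular on the points other than `α`
  have hMα : ∀ x ∈ M, x • α = α := fun x hx => (hfixα x).2 (le_normalizer hx)
  have hMfree : ∀ x ∈ M, x • β = β → x = 1 := by
    intro x hx e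
    rw [hβ, hmk, QuotientGroup.eq] at e
    have e' := inv_mem e
    rw [show ((x * t)⁻¹ * t)⁻¹ = t⁻¹ * x * t⁻¹⁻¹ by group] at e'
    exact h.free (fun hi => htN (inv_mem_iff.1 hi)) hx e'
  have hMne : ∀ x ∈ M, x • β ≠ α := fun x hx e => hαβ (by
    rw [← hMα x hx, smul_left_cancel_iff] at e
    exact e.symm)
  have hΩ : Nat.card (G ⧸ N) = Nat.card M + 1 := by
    rw [← Subgroup.index]
    refine Nat.eq_of_mul_eq_mul_left (Nat.mul_pos (show 0 < Nat.card M by omega) (show 0 < Nat.card (cC M z) by omega)) ?_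
    rw [← h.card_normalizer, card_mul_index, ← card_mul_index M, hidx, h.card_normalizer, mul_assoc]
  let fM : M → {a : G ⧸ N // a ≠ α} := fun x => ⟨(x : G) • β, hMne x x.2⟩
  have hne1 : Nat.card {a : G ⧸ N // a ≠ α} = Nat.card M := by
    rw [Nat.card_eq_fintype_card, Fintype.card_subtype_compl, Fintype.card_subtype_eq, ← Nat.card_eq_fintype_card, hΩ]
    omega
  have hfMinj : Function.Injective fM := fun x y e => by
    have e' : (x : G) • β = (y : G) • β := congrArg Subtype.val e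
    refine Subtype.ext (inv_mul_eq_one.1 (hMfree _ (mul_mem (inv_mem x.2) y.2) ?_))
    rw [mul_smul, ← e', inv_smul_smul]
  have hMreg : ∀ a : G ⧸ N, a ≠ α → ∃ x ∈ M, x • β = a := fun a ha => by
    obtain ⟨x, hx⟩ := ((Nat.bijective_iff_injective_and_card fM).2 ⟨hfMinj, hne1.symm⟩).2 ⟨a, ha⟩
    exact ⟨x, x.2, congrArg Subtype.val hx⟩
  have htwo : ∀ a b : G ⧸ N, a ≠ b → ∃ g : G, g • α = a ∧ g • β = b := by
    intro a b hab
    induction a using QuotientGroup.induction_on with | H g => ?_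
    obtain ⟨x, hx, hxb⟩ := hMreg (g⁻¹ • b) fun e => hab (by
      rw [inv_smul_eq_iff, hα, hmk, mul_one] at e; exact e.symm)
    exact ⟨g * x, by rw [mul_smul, hMα x hx, hα, hmk, mul_one], by rw [mul_smul, hxb, smul_inv_smul]⟩
  -- `C` is the two-point stabiliser, semiregular on the rest
  have hCfree : ∀ k ∈ cC M z, ∀ a : G ⧸ N, a ≠ α → a ≠ β → k • a = a → k = 1 := by
    intro k hk' a haα haβ hka
    by_contra hk1
    obtain ⟨x, hx, rfl⟩ := hMreg a haα
    suffices hx1 : k * x = x * k from haβ (by rw [h.C_fpf hk' hk1 hx hx1, one_smul])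
    have h1 : (⟨k * x * k⁻¹, h.conj_C hk' hx⟩ : M) = ⟨x, hx⟩ := hfMinj (Subtype.ext (by
      show (k * x * k⁻¹) • β = x • β
      rw [mul_smul, inv_smul_eq_iff.2 (hCβ k hk').symm, mul_smul, hka]))
    exact mul_inv_eq_iff_eq_mul.1 (congrArg Subtype.val h1)
  have hstab : stabilizer G α ⊓ stabilizer G β = cC M z := by
    ext g
    rw [mem_inf, mem_stabilizer_iff, mem_stabilizer_iff]
    refine ⟨fun ⟨h1, h2⟩ => ?_, fun hg => ⟨hCα g hg, hCβ g hg⟩⟩
    obtain ⟨y, hy, k, hk', rfl⟩ := h.decomp ((hfixα g).1 h1)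
    rw [mul_smul, hCβ k hk'] at h2
    rw [hMfree y hy h2, one_mul]; exact hk'
  have hthree : ∀ g : G, ∀ a b d : G ⧸ N, a ≠ b → b ≠ d → a ≠ d → g • a = a → g • b = b → g • d = d → g = 1 := by
    intro g a b d hab hbd had ha hb hd
    obtain ⟨u, rfl, rfl⟩ := htwo a b hab
    have h1 : u⁻¹ * g * u ∈ cC M z := hstab ▸ ⟨by
      show (u⁻¹ * g * u) • α = α
      rw [mul_smul, mul_smul, ha, inv_smul_smul], by
      show (u⁻¹ * g * u) • β = β
      rw [mul_smul, mul_smul, hb, inv_smul_smul]⟩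
    have h2 := hCfree _ h1 (u⁻¹ • d) (fun e => had (by rw [← e, smul_inv_smul]))
      (fun e => hbd (by rw [← e, smul_inv_smul])) (by rw [mul_smul, mul_smul, smul_inv_smul, hd])
    calc g = u * (u⁻¹ * g * u) * u⁻¹ := by group
      _ = 1 := by rw [h2]; group
  -- a fixed point of `t`
  obtain ⟨γ, hγα, hγβ, htγ⟩ : ∃ γ, γ ≠ α ∧ γ ≠ β ∧ t • γ = γ := by
    refine ⟨g0 • α, fun e => hαβ ?_, fun e => hαβ ?_, ?_⟩
    · have h1 : t • (g0 • α) = g0 • α := by
        rw [← hg0, mul_smul, mul_smul, inv_smul_smul, hCα z h.z_mem_C]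
      rw [e, htα] at h1; exact h1.symm
    · have h1 : t • (g0 • α) = g0 • α := by
        rw [← hg0, mul_smul, mul_smul, inv_smul_smul, hCα z h.z_mem_C]
      rw [e, htβ] at h1; exact h1
    · rw [← hg0, mul_smul, mul_smul, inv_smul_smul, hCα z h.z_mem_C]
  haveI hfaith : FaithfulSMul G (G ⧸ N) := ⟨fun {a b} hab => (inv_mul_eq_one.1 (hthree (a⁻¹ * b) α β γ hαβ hγβ.symm hγα.symm
    (by rw [mul_smul, ← hab α, inv_smul_smul]) (by rw [mul_smul, ← hab β, inv_smul_smul])
    (by rw [mul_smul, ← hab γ, inv_smul_smul])))⟩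
  haveI : Fintype G := Fintype.ofFinite G
  rcases hcase with hm | hm
  · -- sharply triply transitive
    let fC : cC M z → {a : G ⧸ N // a ≠ α ∧ a ≠ β} := fun k => ⟨(k : G) • γ,
      fun e => hγα (by rw [← hCα k k.2, smul_left_cancel_iff] at e; exact e),
      fun e => hγβ (by rw [← hCβ k k.2, smul_left_cancel_iff] at e; exact e)⟩
    have hne2 : Nat.card {a : G ⧸ N // a ≠ α ∧ a ≠ β} = Nat.card (cC M z) := by
      rw [Nat.card_eq_fintype_card, Fintype.card_subtype, Finset.filter_and]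
      have : (Finset.univ.filter fun a : G ⧸ N => a ≠ α) ∩ (Finset.univ.filter fun a : G ⧸ N => a ≠ β)
          = (Finset.univ : Finset (G ⧸ N)) \ {α, β} := by
        ext a; simp
      rw [this, Finset.card_sdiff_of_subset (Finset.subset_univ _), Finset.card_univ, Finset.card_pair hαβ,
        ← Nat.card_eq_fintype_card, hΩ]
      omega
    have hfC : Function.Bijective fC := (Nat.bijective_iff_injective_and_card fC).2 ⟨fun a b e => by
      have e' : (a : G) • γ = (b : G) • γ := congrArg Subtype.val e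
      exact Subtype.ext (inv_mul_eq_one.1 (hCfree _ (mul_mem (inv_mem a.2) b.2) γ hγα hγβ
        (by rw [mul_smul, ← e', inv_smul_smul]))), hne2.symm⟩
    have hto : ∀ a b d : G ⧸ N, a ≠ b → a ≠ d → b ≠ d → ∃ g : G, g • α = a ∧ g • β = b ∧ g • γ = d := by
      intro a b d hab had hbd
      obtain ⟨u, rfl, rfl⟩ := htwo a b hab
      obtain ⟨k, hk'⟩ := hfC.2 ⟨u⁻¹ • d, fun e => had (by rw [← e, smul_inv_smul]),
        fun e => hbd (by rw [← e, smul_inv_smul])⟩
      refine ⟨u * k, by rw [mul_smul, hCα k k.2], by rw [mul_smul, hCβ k k.2], ?_⟩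
      rw [mul_smul, show (k : G) • γ = u⁻¹ • d from congrArg Subtype.val hk', smul_inv_smul]
    have hS : CfsgLib.SmallGroups.SharplyThreeTransitive.IsSharpThree G (G ⧸ N) := by
      refine ⟨fun a b d a' b' d' hab had hbd hab' had' hbd' => ?_, fun g a b d hab had hbd => hthree g a b d hab hbd had⟩
      obtain ⟨u, rfl, rfl, rfl⟩ := hto a b d hab had hbd
      obtain ⟨v, rfl, rfl, rfl⟩ := hto a' b' d' hab' had' hbd'
      exact ⟨v * u⁻¹, by rw [mul_smul, inv_smul_smul], by rw [mul_smul, inv_smul_smul],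
        by rw [mul_smul, inv_smul_smul]⟩
    obtain ⟨F, i1, i2, hF, hiso⟩ := CfsgLib.SmallGroups.SharpThreeField.nonempty_pgl hS (by omega) hαβ hγα.symm
      hγβ.symm (fun g g' h1 h2 h3 h4 => h.C_comm (hstab ▸ ⟨h1, h2⟩) (hstab ▸ ⟨h3, h4⟩)) htα htβ htγ
      (fun g h1 h2 => hCt g (hstab ▸ ⟨h1, h2⟩))
    have hFm : Fintype.card F = Nat.card M := by omega
    obtain ⟨p, hp⟩ := CharP.exists F
    obtain ⟨n, hpp, hn⟩ := FiniteField.card F p
    exact ⟨F, i1, i2, p, ⟨hpp⟩, hp, hFm, h.elementary (f := n) hpp (by rw [← hFm, hn]) (by omega), Or.inl hiso⟩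
  · -- a Zassenhaus group
    have hZ : IsZassenhausGroup G (G ⧸ N) := by
      refine ⟨hfaith, is_two_pretransitive_iff.2 fun {a b d e} hab hde => ?_, hthree,
        ⟨z, h.invol.1, α, β, hαβ, hCα z h.z_mem_C, hCβ z h.z_mem_C⟩, fun R hR hRt => ?_⟩
      · obtain ⟨u, rfl, rfl⟩ := htwo a b hab
        obtain ⟨v, rfl, rfl⟩ := htwo d e hde
        exact ⟨v * u⁻¹, by rw [mul_smul, inv_smul_smul], by rw [mul_smul, inv_smul_smul]⟩
      by_contra hall
      push Not at hall
      have hφ : ∀ r ∈ R, ∀ s ∈ R, r • α = s • α → r = s := fun r hr s hs e => by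
        refine inv_mul_eq_one.1 ?_
        have h1 : (⟨r⁻¹ * s, mul_mem (inv_mem hr) hs⟩ : R) ∈ stabilizer R α :=
          mem_stabilizer_iff.2 (show (r⁻¹ * s) • α = α by rw [mul_smul, ← e, inv_smul_smul])
        exact congrArg Subtype.val (mem_bot.1 ((hall α).le h1))
      have hRcard : Nat.card R = Nat.card M + 1 := by
        rw [← hΩ]
        refine Nat.card_congr (Equiv.ofBijective (fun r : R => (r : G) • α)
          ⟨fun r s e => Subtype.ext (hφ r r.2 s s.2 e), fun a => ?_⟩)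
        exact hRt.exists_smul_eq α a
      have hmoved : ∀ r ∈ R, r ≠ 1 → r • α ≠ α := fun r hr hr1 e =>
        hr1 (hφ r hr 1 (one_mem R) (by rw [e, one_smul]))
      obtain ⟨r0, hr0⟩ := exists_prime_orderOf_dvd_card' (G := R) 2 (by
        obtain ⟨j, hj⟩ := h.odd_card; rw [hRcard]; omega)
      have hr0' : Inv2 (r0 : G) := inv2_iff.2 (by rwa [orderOf_coe])
      have hexp : ∀ r ∈ R, r * r = 1 := by
        intro r hr
        by_cases hr1 : r = 1
        · rw [hr1, mul_one]
        obtain ⟨x, hx, hxr⟩ := hMreg _ (hmoved r hr hr1)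
        obtain ⟨y, hy, hyr⟩ := hMreg _ (hmoved r0 r0.2 hr0'.1)
        have h1 : r = (x * y⁻¹) * r0 * (x * y⁻¹)⁻¹ := hφ r hr _ (hR.conj_mem _ r0.2 _) (by
          rw [mul_smul, inv_smul_eq_iff.2 (hMα _ (mul_mem hx (inv_mem hy))).symm, mul_smul, mul_smul, ← hyr,
            inv_smul_smul, hxr])
        rw [h1]; exact (hr0'.conj _).2
      have hRc : ∀ a ∈ R, ∀ b ∈ R, a * b = b * a := by
        intro a ha b hb
        calc a * b = a * ((a * b) * (a * b)) * b := by rw [hexp _ (mul_mem ha hb), mul_one]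
          _ = (a * a) * (b * a) * (b * b) := by group
          _ = _ := by rw [hexp a ha, hexp b hb, one_mul, mul_one]
      let φ : R →* R := MonoidHom.mk' (fun v => ⟨(v : G) * (z * v * z⁻¹), mul_mem v.2 (hR.conj_mem _ v.2 z)⟩)
        fun a b => Subtype.ext (by
          show (a : G) * b * (z * (a * b) * z⁻¹) = (a : G) * (z * a * z⁻¹) * ((b : G) * (z * b * z⁻¹))
          rw [show z * ((a : G) * b) * z⁻¹ = (z * a * z⁻¹) * (z * b * z⁻¹) by group, mul_assoc (a : G) b,
            ← mul_assoc (b : G), hRc b b.2 _ (hR.conj_mem _ a.2 z)]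
          group)
      have hsmall : ∀ U : Subgroup R, (∀ v ∈ U, z * (v : G) * z⁻¹ = v) → Nat.card U ≤ 2 := by
        intro U hU
        calc Nat.card U ≤ Nat.card ({α, β} : Set (G ⧸ N)) :=
              Nat.card_le_card_of_injective (fun v : U => (⟨((v : R) : G) • α, by
                by_contra hne
                simp only [Set.mem_insert_iff, Set.mem_singleton_iff, not_or] at hne
                refine h.invol.1 (hCfree z h.z_mem_C _ hne.1 hne.2 ?_)
                rw [← mul_smul, mul_inv_eq_iff_eq_mul.1 (hU v v.2), mul_smul, hCα z h.z_mem_C]⟩ :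
                  ({α, β} : Set (G ⧸ N))))
                fun a b e => Subtype.ext (Subtype.ext (hφ _ (a : R).2 _ (b : R).2 (congrArg Subtype.val e)))
          _ ≤ 2 := by rw [Nat.card_coe_set_eq, Set.ncard_pair hαβ]
      have hker := hsmall φ.ker fun v hv => by
        have h1 : (v : G) * (z * v * z⁻¹) = 1 := congrArg Subtype.val (MonoidHom.mem_ker.1 hv)
        rw [← inv_eq_of_mul_eq_one_right h1, inv_eq_of_mul_eq_one_right (hexp v v.2)]
      have hran := hsmall φ.range fun w hw => by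
        obtain ⟨v, rfl⟩ := hw
        show z * ((v : G) * (z * v * z⁻¹)) * z⁻¹ = (v : G) * (z * v * z⁻¹)
        rw [hRc _ v.2 _ (hR.conj_mem _ v.2 z)]
        calc z * (z * (v : G) * z⁻¹ * v) * z⁻¹ = (z * z) * v * (z * z)⁻¹ * (z * v * z⁻¹) := by group
          _ = _ := by rw [h.invol.2, one_mul, inv_one, mul_one, hRc _ v.2 _ (hR.conj_mem _ v.2 z)]
      have h4 := card_mul_index φ.ker
      rw [index_ker, hRcard] at h4
      have : Nat.card φ.ker * Nat.card φ.range ≤ 2 * 2 := Nat.mul_le_mul hker hran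
      obtain ⟨j, hj⟩ := heven
      omega
    have hcard : Nat.card ↥(stabilizer G α ⊓ stabilizer G β) = Nat.card (cC M z) := by rw [hstab]
    obtain ⟨p, f, K, i1, i2, hp, -, hK, hΩp, hiso⟩ :=
      CfsgLib.SmallGroups.ZassenhausHalf.nonempty_psl_of_half hZ hαβ
        (by rw [hcard]; exact even_iff_two_dvd.2 heven)
        (by rw [hcard, ← Nat.card_eq_fintype_card, hΩ]; omega)
    rw [← Nat.card_eq_fintype_card, hΩ] at hΩp
    haveI := Fact.mk hp
    refine ⟨K, i1, i2, p, ⟨hp⟩, charP_of_card_eq_prime_pow hK, by omega,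
      h.elementary (f := f) hp (by omega) (by omega), Or.inr ⟨?_, hiso⟩⟩
    obtain ⟨j, hj⟩ := heven
    omega

end Setup

end CfsgLib.LocalEven.InvolutionCount
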