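import Cfsg.Agent.Lib.LocalEven.InvolutionCount.Count
import Cfsg.Agent.Lib.LocalEven.DihedralCriterion
import Cfsg.Agent.Lib.Cores.Basic
import Cfsg.Agent.Lib.Invol.BaerSuzuki
import Cfsg.Agent.Lib.Solvable.NilpotentHall
import Cfsg.Agent.Lib.Solvable.LagrangeConverse
import Cfsg.Agent.Lib.SL2Table.SL2EvenABA
import Cfsg.Agent.Lib.Spectrum.SL2
import Cfsg.Agent.S1230

/-!
The configuration `C = ⟨z⟩`: an affine group, or `SL₂(2ⁿ)`.
-/

set_option autoImplicit false

namespace CfsgLib.LocalEven.InvolutionCount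

open Subgroup Cfsg
open scoped Pointwise

variable {G : Type*} [Group G] [Finite G] {M : Subgroup G} {z : G}

namespace Setup

theorem isMulCommutative_M (h : Setup M z) : IsMulCommutative M :=
  ⟨⟨fun a b => Subtype.ext (h.comm a.2 b.2)⟩⟩

theorem conj_z_mem_mul (h : Setup M z) {y : G} (hy : y ∈ M) : IsConj z (y * z) := by
  obtain ⟨r, hr, hry, -⟩ := h.sqrt hy
  refine isConj_iff.2 ⟨r, ?_⟩
  calc r * z * r⁻¹ = r * (z * r⁻¹ * z⁻¹) * z := by group
    _ = _ := by rw [h.inverts h.invol h.z_mem (inv_mem hr), inv_inv, hry]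

/-- An odd-order element inverted by an involution that is not conjugate to `z` is trivial. -/
theorem not_inverted (h : Setup M z) (hcop : (Nat.card M).Coprime M.index)
    (hodd : ∀ q : ℕ, q.Prime → q ∣ M.index → q = 2) {w a : G} (hw : Inv2 w) (hwz : ¬ IsConj z w)
    (ha : Odd (orderOf a)) (hinv : w * a * w⁻¹ = a⁻¹) : a = 1 := by
  by_contra ha1
  have hnil : Group.IsNilpotent M :=
    @CommGroup.isNilpotent M { (inferInstance : Group M) with mul_comm := fun a b => Subtype.ext (h.comm a.2 b.2) }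
  obtain ⟨g, hg⟩ := CfsgLib.Solvable.nilpotent_hall_dominates (K := zpowers a) hnil hcop fun q hq hd => by
    rw [Nat.card_zpowers] at hd
    rcases hq.dvd_mul.1 ((hd.trans (orderOf_dvd_natCard a)).trans (dvd_of_eq (card_mul_index M).symm)) with e | e
    · exact e
    · obtain rfl := hodd q hq e
      exact absurd (ha.of_dvd_nat hd) (by decide)
  obtain ⟨x, hx, hxa⟩ := hg (mem_zpowers a)
  replace hxa : g * x * g⁻¹ = a := hxa
  have hx1 : x ≠ 1 := fun e => ha1 (by rw [← hxa, e]; group)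
  set w' := g⁻¹ * w * g with hw'
  have hw'2 : Inv2 w' := by simpa [hw'] using hw.conj g⁻¹
  have hN : w' ∈ normalizer (M : Set G) := by
    refine h.conj_mem hx hx1 ?_
    have : w' * x * w'⁻¹ = x⁻¹ := by
      calc w' * x * w'⁻¹ = g⁻¹ * (w * (g * x * g⁻¹) * w⁻¹) * g := by rw [hw']; group
        _ = g⁻¹ * (g * x * g⁻¹)⁻¹ * g := by rw [hxa, hinv]
        _ = _ := by group
    rw [this]; exact inv_mem hx
  obtain ⟨y, hy, e⟩ := h.invol_normalizer hw'2 hN
  exact hwz ((h.conj_z_mem_mul hy).trans (isConj_iff.2 ⟨g, by rw [← e, hw']; group⟩))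

/-- The affine case. -/
theorem affine (h : Setup M z) (hc : Nat.card (cC M z) = 2) {d : ℕ} (hd : 1 ≤ d)
    (hK : Nat.card (cK z) = 2 ^ (d + 1)) (hm : Nat.card M = 2 ^ d + 1)
    (hk : Nat.card (OuterConj M z) + 1 = 2 ^ d) :
    ∃ (d : ℕ) (E : Subgroup G), 1 ≤ d ∧ E.Normal ∧ IsElementaryAbelian 2 E ∧ Nat.card E = 2 ^ (2 * d) ∧
      E ⊓ normalizer (M : Set G) = ⊥ ∧ E ⊔ normalizer (M : Set G) = ⊤ ∧
      Nonempty (↥(normalizer (M : Set G)) ≃* DihedralGroup (2 ^ d + 1)) := by
  classical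
  haveI : Fintype G := Fintype.ofFinite G
  haveI : Fact (Nat.Prime 2) := ⟨Nat.prime_two⟩
  set N := normalizer (M : Set G) with hNdef
  set m := Nat.card M with hmdef
  have hout := h.card_outer
  have hidx : M.index = 2 * 2 ^ (2 * d) := by
    rw [h.class_eq, hK, show 1 + Nat.card (OuterConj M z) = 2 ^ d by omega, ← pow_add, ← pow_succ']
    congr 1; omega
  have hodd : ∀ q : ℕ, q.Prime → q ∣ M.index → q = 2 := fun q hq e => by
    rw [hidx, ← pow_succ'] at e
    exact (Nat.prime_dvd_prime_iff_eq hq Nat.prime_two).1 (hq.dvd_of_dvd_pow e)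
  have hcop : (Nat.card M).Coprime M.index := by
    rw [hidx, ← pow_succ']
    exact (Nat.coprime_two_right.2 h.odd_card).pow_right _
  set R := pCore 2 G with hR
  haveI hRn : R.Normal := by rw [hR]; infer_instance
  have hRp : IsPGroup 2 R := CfsgLib.Cores.isPGroup_pCore 2
  -- the other involutions lie in the core
  have hmem : ∀ w : G, Inv2 w → ¬ IsConj z w → w ∈ R := by
    intro w hw hwz
    by_contra hwR
    obtain ⟨a, ha1, ha, hinv⟩ := CfsgLib.Invol.exists_inverted_odd w (inv2_iff.1 hw)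
      fun L hL hLp hwL => hwR (CfsgLib.Cores.le_pCore (hn := hL) hLp hwL)
    exact ha1 (h.not_inverted hcop hodd hw hwz ha hinv)
  have hRN : R ⊓ N = ⊥ := by
    rw [eq_bot_iff]
    intro x hx
    rw [mem_bot]
    by_contra hx1
    obtain ⟨j, hj⟩ := (IsPGroup.iff_orderOf.1 hRp) ⟨x, hx.1⟩
    rw [orderOf_mk] at hj
    rcases j with _ | j
    · exact hx1 (orderOf_eq_one_iff.1 (by rw [hj, pow_zero]))
    have hu : orderOf (x ^ 2 ^ j) = 2 := by
      rw [orderOf_pow' _ (by positivity), hj, pow_succ]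
      rw [Nat.gcd_mul_right_left, Nat.mul_div_cancel_left _ (by positivity)]
    obtain ⟨y, hy, e⟩ := h.invol_normalizer (inv2_iff.2 hu) (pow_mem hx.2 _)
    obtain ⟨v, hv, hv1⟩ : ∃ v ∈ M, v ≠ 1 := by
      by_contra hall
      push Not at hall
      exact h.ne_bot (eq_bot_iff.2 fun v hv => mem_bot.2 (hall v hv))
    have h1 : v * (y * z) * v⁻¹ * (y * z)⁻¹ ∈ R :=
      mul_mem (hRn.conj_mem _ (e ▸ pow_mem hx.1 _) v) (inv_mem (e ▸ pow_mem hx.1 _))
    rw [show v * (y * z) * v⁻¹ * (y * z)⁻¹ = v * y * (z * v⁻¹ * z⁻¹) * y⁻¹ by group,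
      h.inverts h.invol h.z_mem (inv_mem hv), inv_inv, mul_assoc v y v, h.comm hy hv, ← mul_assoc,
      mul_inv_cancel_right] at h1
    obtain ⟨i, hi⟩ := (IsPGroup.iff_orderOf.1 hRp) ⟨_, h1⟩
    rw [orderOf_mk] at hi
    rcases i with _ | i
    · refine h.no_inv2 (inv2_iff.2 (orderOf_eq_prime (x := v) (p := 2) ?_ hv1)) hv
      rw [pow_two]; exact orderOf_eq_one_iff.1 (by rw [hi, pow_zero])
    · have h2 : 2 ∣ Nat.card M := (hi ▸ dvd_pow_self 2 (Nat.succ_ne_zero i)).trans
        (orderOf_dvd_natCard M (mul_mem hv hv))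
      exact Nat.not_even_iff_odd.2 h.odd_card (even_iff_two_dvd.2 h2)
  have hNcard : Nat.card N = m * 2 := by rw [h.card_normalizer, hc]
  have hGcard : Nat.card G = m * (2 * 2 ^ (2 * d)) := by rw [← hidx, card_mul_index]
  -- the size of the core
  have hsup : Nat.card (R ⊔ N : Subgroup G) = Nat.card R * Nat.card N := by
    have h1 := CfsgLib.Solvable.card_sup_mul_card_inf R N
    rw [hRN, Subgroup.card_bot, mul_one] at h1
    exact h1
  have hRle : Nat.card R ≤ 2 ^ (2 * d) := by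
    have h1 : Nat.card R * Nat.card N ≤ Nat.card G := hsup ▸ card_le_card_group _
    rw [hNcard, hGcard] at h1
    refine Nat.le_of_mul_le_mul_right ?_ (show 0 < m * 2 by have := h.one_lt_card; omega)
    calc _ ≤ m * (2 * 2 ^ (2 * d)) := h1
      _ = _ := by ring
  let NC := {t : Outer M z // ¬ IsConj z (t : G)}
  have hNC : Nat.card NC + 1 = 2 ^ d := by
    have h1 : Nat.card {t : Outer M z // IsConj z (t : G)} = Nat.card (OuterConj M z) :=
      Nat.card_congr (Equiv.subtypeSubtypeEquivSubtypeInter (fun t : G => t * z = z * t ∧ t ∉ cC M z) (IsConj z))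
    have h2 : Nat.card (Outer M z) = Nat.card {t : Outer M z // IsConj z (t : G)} + Nat.card NC := by
      rw [← Nat.card_sum]
      exact Nat.card_congr (Equiv.sumCompl _).symm
    rw [hc, hK, pow_succ'] at hout
    omega
  let f : Option (M × NC) → R := fun x => match x with
    | none => 1
    | some p => ⟨(p.1 : G) * ((p.2.1 : Outer M z) : G) * (p.1 : G)⁻¹, hmem _
        ((h.centralizer_outside p.2.1.2.1 p.2.1.2.2).1.conj _) fun hcj =>
          p.2.2 (hcj.trans (isConj_iff.2 ⟨(p.1 : G)⁻¹, by group⟩))⟩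
  have hne : ∀ p : M × NC, (f (some p) : G) ≠ 1 := fun p =>
    ((h.centralizer_outside p.2.1.2.1 p.2.1.2.2).1.conj _).1
  have hinj : Function.Injective f := by
    rintro (_ | ⟨r, t⟩) (_ | ⟨r', t'⟩) e
    · rfl
    · exact absurd (congrArg Subtype.val e).symm (hne (r', t'))
    · exact absurd (congrArg Subtype.val e) (hne (r, t))
    · have e0 : (r : G) * ((t.1 : Outer M z) : G) * (r : G)⁻¹ = (r' : G) * ((t'.1 : Outer M z) : G) * (r' : G)⁻¹ :=
        congrArg Subtype.val e
      obtain ⟨e2, e3⟩ := Prod.ext_iff.1 (@h.param.1 (r, t.1) (r', t'.1) (Subtype.ext e0))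
      exact congrArg some (Prod.ext e2 (Subtype.ext e3))
  have hdom : Nat.card (Option (M × NC)) = 2 ^ (2 * d) := by
    haveI : Fintype NC := Fintype.ofFinite _
    rw [Nat.card_eq_fintype_card, Fintype.card_option, ← Nat.card_eq_fintype_card, Nat.card_prod, ← hmdef, hm]
    obtain ⟨j, hj⟩ : ∃ j, Nat.card NC = j := ⟨_, rfl⟩
    rw [hj] at hNC ⊢
    rw [two_mul, pow_add, ← hNC]; ring
  have hRcard : Nat.card R = 2 ^ (2 * d) :=
    le_antisymm hRle (hdom ▸ Nat.card_le_card_of_injective f hinj)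
  have hsurj : Function.Surjective f := (Nat.bijective_iff_injective_and_card f).2 ⟨hinj, by rw [hdom, hRcard]⟩ |>.2
  have hsq : ∀ x ∈ R, x * x = 1 := by
    intro x hx
    obtain ⟨o, ho⟩ := hsurj ⟨x, hx⟩
    have e := congrArg Subtype.val ho
    change _ = x at e
    rw [← e]
    rcases o with _ | p
    · exact one_mul _
    · exact ((h.centralizer_outside p.2.1.2.1 p.2.1.2.2).1.conj _).2
  have hcomm : ∀ a ∈ R, ∀ b ∈ R, a * b = b * a := by
    intro a ha b hb
    calc a * b = a * ((a * b) * (a * b)) * b := by rw [hsq _ (mul_mem ha hb), mul_one]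
      _ = (a * a) * (b * a) * (b * b) := by group
      _ = _ := by rw [hsq a ha, hsq b hb, one_mul, mul_one]
  have htop : R ⊔ N = ⊤ := by
    refine eq_top_of_card_eq _ ?_
    rw [hsup, hRcard, hNcard, hGcard]; ring
  -- `M` is cyclic
  have hRne : R ≠ ⊥ := fun e => by
    rw [e, Subgroup.card_bot] at hRcard
    exact (Nat.one_lt_pow (by omega) Nat.one_lt_two).ne hRcard
  have hcyc : IsCyclic M := by
    refine CfsgLib.Solvable.isCyclic_of_fpf_abelian hRne hcomm (by rw [normalizer_eq_top]; exact le_top) ?_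
      (Or.inl fun a ha b hb => h.comm ha hb)
    intro a ha ha1
    rw [eq_bot_iff]
    intro y hy
    rw [mem_bot]
    by_contra hy1
    exact ha1 (h.fpf ⟨hy1, hsq y hy.1⟩ ha (mem_centralizer_singleton_iff.1 hy.2).symm.symm)
  obtain ⟨⟨x, hxM⟩, hx⟩ := hcyc.exists_generator
  have hox : orderOf x = 2 ^ d + 1 := by
    rw [← hm, hmdef, ← orderOf_eq_card_of_forall_mem_zpowers hx, orderOf_mk]
  haveI : NeZero (2 ^ d + 1) := ⟨by omega⟩
  have hxp : x ^ (2 ^ d + 1) = 1 := hox ▸ pow_orderOf_eq_one x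
  have hzinv := h.inverts h.invol h.z_mem hxM
  set φ := CfsgLib.LocalEven.DihedralCrit.toGroup z x h.invol.2 hxp hzinv with hφ
  have hφN : ∀ e, φ e ∈ N := by
    rintro (i | i)
    · exact pow_mem (le_normalizer hxM) _
    · exact mul_mem h.z_mem (pow_mem (le_normalizer hxM) _)
  have hφinj : Function.Injective φ := CfsgLib.LocalEven.DihedralCrit.toGroup_injective h.invol.2 hxp hzinv hox
    fun hz => h.no_inv2 h.invol (zpowers_le.2 hxM hz)
  refine ⟨d, R, hd, hRn, ⟨⟨⟨fun a b => Subtype.ext (hcomm a a.2 b b.2)⟩⟩, fun a ha => by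
    rw [pow_two]; exact hsq a ha⟩, hRcard, hRN, htop, ⟨(MulEquiv.ofBijective (φ.codRestrict N hφN) ?_).symm⟩⟩
  exact (Nat.bijective_iff_injective_and_card _).2
    ⟨fun a b e => hφinj (congrArg Subtype.val e), by rw [DihedralGroup.nat_card, hNcard, hm]; ring⟩

/-- The linear case in characteristic two. -/
theorem linear (h : Setup M z) (hc : Nat.card (cC M z) = 2) (hsq : ∀ g : G, g * z = z * g → g * g = 1) {d : ℕ}
    (hd : 1 ≤ d) (hK : Nat.card (cK z) = 2 ^ (d + 1)) (hm : Nat.card M = 2 ^ (d + 1) + 1)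
    (hk : Nat.card (OuterConj M z) = Nat.card (Outer M z)) :
    ∃ (F : Type) (_ : Field F) (_ : Fintype F) (e : ℕ), 1 < e ∧ Fintype.card F = 2 ^ e ∧ IsCyclic ↥M ∧
      Nat.card M = 2 ^ e + 1 ∧ Nonempty (G ≃* Matrix.ProjectiveSpecialLinearGroup (Fin 2) F) := by
  classical
  haveI : Fact (Nat.Prime 2) := ⟨Nat.prime_two⟩
  set q := 2 ^ (d + 1) with hq
  have hout := h.card_outer
  rw [hc, hK] at hout
  -- all involutions are conjugate to `z`
  have hall : ∀ u : G, Inv2 u → IsConj z u := by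
    intro u hu
    by_cases huN : u ∈ normalizer (M : Set G)
    · obtain ⟨y, hy, rfl⟩ := h.invol_normalizer hu huN
      exact h.conj_z_mem_mul hy
    obtain ⟨⟨r, t⟩, e⟩ := h.param.2 ⟨u, hu, huN⟩
    obtain ⟨⟨t', ht'⟩, et⟩ : ∃ s : OuterConj M z, (s : G) = t := by
      let g : OuterConj M z → Outer M z := fun s => ⟨s, s.2.1⟩
      have hg : Function.Bijective g := (Nat.bijective_iff_injective_and_card g).2
        ⟨fun a b e => Subtype.ext (congrArg (fun w : Outer M z => (w : G)) e), hk⟩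
      obtain ⟨s, hs⟩ := hg.2 t
      exact ⟨s, congrArg (fun w : Outer M z => (w : G)) hs⟩
    have htz : IsConj z (t : G) := et ▸ ht'.2
    exact htz.trans (isConj_iff.2 ⟨(r : G), congrArg Subtype.val e⟩)
  have hC : ∀ u : G, orderOf u = 2 → IsMulCommutative (centralizer ({u} : Set G)) ∧
      ∀ c ∈ centralizer ({u} : Set G), c ^ 2 = 1 := by
    intro u hu
    obtain ⟨g, hg⟩ := isConj_iff.1 (hall u (inv2_iff.2 hu))
    have hs : ∀ c ∈ centralizer ({u} : Set G), c * c = 1 := by
      intro c hc'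
      have h1 : (g⁻¹ * c * g) * z = z * (g⁻¹ * c * g) := by
        calc g⁻¹ * c * g * z = g⁻¹ * (c * (g * z * g⁻¹)) * g := by group
          _ = g⁻¹ * ((g * z * g⁻¹) * c) * g := by rw [hg, mem_centralizer_singleton_iff.1 hc']
          _ = _ := by group
      have h2 := hsq _ h1
      calc c * c = g * ((g⁻¹ * c * g) * (g⁻¹ * c * g)) * g⁻¹ := by group
        _ = 1 := by rw [h2]; group
    refine ⟨⟨⟨fun a b => Subtype.ext ?_⟩⟩, fun c hc' => by rw [pow_two]; exact hs c hc'⟩
    show (a : G) * b = b * a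
    calc (a : G) * b = a * (((a : G) * b) * (a * b)) * b := by rw [hs _ (mul_mem a.2 b.2), mul_one]
      _ = ((a : G) * a) * (b * a) * ((b : G) * b) := by group
      _ = _ := by rw [hs a a.2, hs b b.2, one_mul, mul_one]
  -- the Sylow subgroup
  have hKp : IsPGroup 2 (cK z) := IsPGroup.of_card hK
  obtain ⟨T, hT⟩ := hKp.exists_le_sylow
  have hTK : (T : Subgroup G) = cK z := by
    have hzT : z ∈ (T : Subgroup G) := hT (mem_centralizer_singleton_iff.2 rfl)
    haveI : Nontrivial T := ⟨⟨⟨z, hzT⟩, 1, fun e => h.invol.1 (congrArg Subtype.val e)⟩⟩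
    haveI := IsPGroup.center_nontrivial T.2
    obtain ⟨w, hw⟩ := exists_prime_orderOf_dvd_card' (G := center (T : Subgroup G)) 2 (by
      obtain ⟨k, hk'⟩ := (IsPGroup.iff_card).1 (T.2.to_subgroup (center (T : Subgroup G)))
      rw [hk']
      refine dvd_pow_self 2 fun h0 => ?_
      rw [h0, pow_zero] at hk'
      exact Finite.one_lt_card.ne' hk')
    obtain ⟨g, hg⟩ := isConj_iff.1 (hall ((w : T) : G) (inv2_iff.2 (by rwa [orderOf_coe, orderOf_coe])))
    refine (eq_of_le_of_card_ge hT ?_).symm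
    refine Nat.card_le_card_of_injective (fun x : T => (⟨g⁻¹ * x * g, mem_centralizer_singleton_iff.2 ?_⟩ : cK z)) ?_
    · have hx : (x : G) * (g * z * g⁻¹) = (g * z * g⁻¹) * x := by
        rw [hg]; exact congrArg Subtype.val (mem_center_iff.1 w.2 x)
      calc g⁻¹ * x * g * z = g⁻¹ * (x * (g * z * g⁻¹)) * g := by group
        _ = g⁻¹ * ((g * z * g⁻¹) * x) * g := by rw [hx]
        _ = _ := by group
    · intro a b e
      exact Subtype.ext (mul_left_cancel (mul_right_cancel (congrArg Subtype.val e)))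
  have hTcard : Nat.card (T : Subgroup G) = q := by rw [hTK, hK]
  have hT4 : 4 ≤ q := by
    calc 4 = 2 ^ 2 := rfl
      _ ≤ q := Nat.pow_le_pow_right (by norm_num) (by omega)
  have hnc : ¬ IsCyclic (T : Subgroup G) := fun hcyc => by
    obtain ⟨a, ha⟩ := hcyc.exists_generator
    have h1 : orderOf a ≤ 2 := Nat.le_of_dvd two_pos (orderOf_dvd_of_pow_eq_one (Subtype.ext (by
      show (a : G) ^ 2 = 1
      rw [pow_two]; exact hsq a (mem_centralizer_singleton_iff.1 (hTK.le a.2)))))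
    rw [orderOf_eq_card_of_forall_mem_zpowers ha, hTcard] at h1
    omega
  have hnn : ¬ (T : Subgroup G).Normal := fun hn => by
    have h1 : Nat.card {g : G // orderOf g = 2} ≤ Nat.card (T : Subgroup G) := by
      refine Nat.card_le_card_of_injective (fun u => (⟨u, ?_⟩ : (T : Subgroup G))) fun a b e =>
        Subtype.ext (congrArg (fun w : (T : Subgroup G) => (w : G)) e)
      obtain ⟨g, hg⟩ := isConj_iff.1 (hall u (inv2_iff.2 u.2))
      rw [← hg]
      exact hn.conj_mem z (hT (mem_centralizer_singleton_iff.2 rfl)) g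
    rw [h.card_invol, hTcard, hm] at h1
    nlinarith
  obtain ⟨F, i1, i2, hF, ⟨e⟩⟩ := Cfsg.Agent.S1230.result T hnc hnn hC
  rw [hTcard] at hF
  refine ⟨F, i1, i2, d + 1, by omega, hF, ?_, hm, ⟨e⟩⟩
  -- `M` lies in a non-split torus
  haveI : CharP F 2 := charP_of_card_eq_prime_pow hF
  have hGcard : Nat.card G = (q + 1) * (q * (q - 1)) := by
    rw [← card_mul_index M, hm, h.class_eq, hK, hk]
    congr 2; omega
  let e' : G ≃* Matrix.SpecialLinearGroup (Fin 2) F := e.trans CfsgLib.Spectrum.pslEquivSL2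
  obtain ⟨μ, hμ⟩ := CfsgLib.SL2Table.exists_aniso (F := F)
  set H := CfsgLib.SL2Table.evTorus μ
  have hH : Nat.card H = q + 1 := by rw [CfsgLib.SL2Table.card_evTorus hμ, hF]
  haveI : IsCyclic H := CfsgLib.SL2Table.isCyclic_evTorus hμ
  have hHi : H.index = q * (q - 1) := by
    have h1 := card_mul_index H
    rw [hH, ← Nat.card_congr e'.toEquiv, hGcard] at h1
    exact Nat.eq_of_mul_eq_mul_left (Nat.succ_pos q) h1
  have hcop : (Nat.card H).Coprime H.index := by
    rw [hH, hHi]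
    have ho : ¬ 2 ∣ q + 1 := by
      have : 2 ∣ q := dvd_pow_self 2 (Nat.succ_ne_zero d)
      omega
    refine Nat.Coprime.mul_right ((Nat.coprime_self_add_left (m := q) (n := 1)).2 (Nat.coprime_one_left q)) ?_
    obtain ⟨q', hq'⟩ : ∃ q', q = q' + 1 := ⟨q - 1, by omega⟩
    rw [hq', Nat.add_sub_cancel, show q' + 1 + 1 = q' + 2 by rfl, Nat.coprime_self_add_left,
      Nat.coprime_two_left]
    rw [Nat.odd_iff]; omega
  letI : CommGroup H := IsCyclic.commGroup
  obtain ⟨g, hg⟩ := CfsgLib.Solvable.nilpotent_hall_dominates (H := H) (K := M.map e'.toMonoidHom)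
    (CommGroup.isNilpotent (G := H)) hcop fun p hp hd => by
      rw [card_map_of_injective e'.injective, hm] at hd
      rwa [hH]
  haveI : IsCyclic ↥(MulAut.conj g • H : Subgroup _) :=
    isCyclic_of_surjective _ (Subgroup.equivSMul (MulAut.conj g) H).surjective
  exact isCyclic_of_injective ((Subgroup.inclusion hg).comp (M.equivMapOfInjective e'.toMonoidHom e'.injective).toMonoidHom)
    ((Subgroup.inclusion_injective hg).comp (M.equivMapOfInjective e'.toMonoidHom e'.injective).injective)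

end Setup

end CfsgLib.LocalEven.InvolutionCount
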